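import Mathlib
import Groth.Prelude.Def_DCoh2
import Groth.Agent.Lib.Helper5.QC.AffAcyc
import Groth.Agent.S3089

/-!
# Injective modules on a scheme are flasque; exactness from sections (helper5)
-/

set_option autoImplicit false
universe u
open CategoryTheory CategoryTheory.Limits Opposite TopologicalSpace AlgebraicGeometry Abelian

namespace Groth.Agent.Lib.Helper5.MV

open Groth.Agent.Lib.Helper5.Misc Groth.Agent.Lib.Helper5.QC

variable {X : Scheme.{u}}

/-- the inclusion of representable sheaves of sets -/
def kuMap {W U : X.Opens} (h : W ≤ U) : KU (X := X.toTopCat) W ⟶ KU U :=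
  ⟨yoneda.map (homOfLE h)⟩

instance mono_kuMap {W U : X.Opens} (h : W ≤ U) : Mono (kuMap h) := by
  haveI : Mono ((sheafToPresheaf _ _).map (kuMap h)) := by
    haveI : ∀ V, Mono (((sheafToPresheaf _ _).map (kuMap h)).app V) := by
      intro V
      rw [mono_iff_injective]
      intro a b _
      exact Subsingleton.elim (α := (V.unop ⟶ W)) a b
    exact NatTrans.mono_of_mono_app _
  exact (sheafToPresheaf _ _).mono_of_mono_map inferInstance

/-- **injective modules are flasque** -/
theorem surjective_res_of_injective (M : X.Modules) [Injective M] {W U : X.Opens} (h : W ≤ U) :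
    Function.Surjective (M.presheaf.map (homOfLE h).op) := by
  haveI : EnoughInjectives X.Modules := Groth.Agent.S0485.result _ X.ringCatSheaf
  haveI : HasExt.{u} X.Modules := hasExt_of_enoughInjectives _
  let J := Opens.grothendieckTopology X
  let F : Sheaf J AddCommGrpCat.{u} := (SheafOfModules.toSheaf X.ringCatSheaf).obj M
  have hF : CohCx.IsTotallyAcyclic F := by
    intro K p
    obtain ⟨e⟩ := ExtFreeHK.nonempty_ext_addEquiv_HK (R := X.ringCatSheaf) K M (p + 1)
    haveI hM : Injective (C := SheafOfModules.{u} X.ringCatSheaf) M := ‹Injective M›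
    haveI : Subsingleton (Ext (ExtFreeHK.freeSh (R := X.ringCatSheaf) K) M (p + 1)) :=
      ⟨fun a b => (Ext.eq_zero_of_injective (C := SheafOfModules.{u} X.ringCatSheaf) (I := M) a).trans
        (Ext.eq_zero_of_injective (C := SheafOfModules.{u} X.ringCatSheaf) (I := M) b).symm⟩
    exact e.symm.toEquiv.subsingleton
  haveI hmono := mono_kuMap h
  have hsurj := @Groth.Agent.S3089.result _ _ _ F hF _ _ (kuMap h) hmono
  intro s
  let φW : CohCx.freeSheaf J W ⟶ F := (FreeSec.secEquiv J W F).symm s
  obtain ⟨φU, hφ⟩ := hsurj φW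
  have hφ' : CohCx.freeSheafMap J (homOfLE h) ≫ (φU : CohCx.freeSheaf J U ⟶ F) = φW := hφ
  refine ⟨FreeSec.secEquiv J U F φU, ?_⟩
  have h1 := FreeSec.secEquiv_res J (homOfLE h) (φU : CohCx.freeSheaf J U ⟶ F)
  rw [hφ'] at h1
  simp only [φW, Equiv.apply_symm_apply] at h1
  exact h1.symm

end Groth.Agent.Lib.Helper5.MV
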