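import Mathlib
import Groth.Prelude.Def_DCoh2
import Groth.Agent.Lib.Helper5.MV.Flasque
import Groth.Agent.Lib.Helper1.QcsLoc

/-!
# The Mayer–Vietoris short exact sequence of an injective module (helper5)
-/

set_option autoImplicit false
universe u
open CategoryTheory CategoryTheory.Limits Opposite TopologicalSpace AlgebraicGeometry

namespace Groth.Agent.Lib.Helper5.MV

open Groth.Agent.Lib.Helper5.QC Groth.Agent.Helper1.QcCech Groth.Agent.Helper1.QcsLoc

variable {X : Scheme.{u}}

section Sections

/-- a morphism of modules injective on all sections is a monomorphism -/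
theorem mono_of_app_injective {M N : X.Modules} (f : M ⟶ N)
    (h : ∀ T : X.Opens, Function.Injective (f.app T)) : Mono f := by
  apply Preadditive.mono_of_cancel_zero
  intro Z g hg
  apply Scheme.Modules.hom_ext
  intro T
  apply ConcreteCategory.hom_ext
  intro x
  apply h T
  have h1 : (g ≫ f).app T x = (0 : Z ⟶ N).app T x := by rw [hg]
  refine h1.trans ?_
  simp

/-- a morphism of modules surjective on all sections is an epimorphism -/
theorem epi_of_app_surjective {M N : X.Modules} (f : M ⟶ N)
    (h : ∀ T : X.Opens, Function.Surjective (f.app T)) : Epi f := by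
  apply Preadditive.epi_of_cancel_zero
  intro Z g hg
  apply Scheme.Modules.hom_ext
  intro T
  apply ConcreteCategory.hom_ext
  intro y
  obtain ⟨x, rfl⟩ := h T y
  have h1 : (f ≫ g).app T x = (0 : M ⟶ Z).app T x := by rw [hg]
  exact h1

/-- the free modules on all opens detect vanishing -/
theorem detects_allW : Detects {W : X.Modules | ∃ T : X.Opens, W = WU T} := by
  intro M N f hf
  exact detects_testFam f (fun W hW g => by
    obtain ⟨U, -, rfl⟩ := hW
    exact hf _ ⟨U, rfl⟩ g)

lemma secW_zero' (T : X.Opens) (M N : X.Modules) : secW T N (0 : WU T ⟶ N) = 0 := by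
  have h := secW_zero T N N (0 : WU T ⟶ N)
  rwa [comp_zero] at h

/-- exactness of a short complex of modules can be checked on sections -/
theorem exact_of_app (S : ShortComplex X.Modules)
    (h : ∀ (T : X.Opens) (x : Γ(S.X₂, T)), S.g.app T x = 0 → ∃ y : Γ(S.X₁, T), S.f.app T y = x) :
    S.Exact := by
  apply exact_of_detects detects_allW
  rintro W ⟨T, rfl⟩ x hx
  have h1 : S.g.app T (secW T S.X₂ x) = 0 := by
    rw [← secW_comp, hx]
    exact secW_zero' T S.X₂ S.X₃
  obtain ⟨t, ht⟩ := h T _ h1
  refine ⟨(secW T S.X₁).symm t, ?_⟩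
  apply (secW T S.X₂).injective
  rw [secW_comp, Equiv.apply_symm_apply, ht]

/-- short exactness of a short complex of modules can be checked on sections -/
theorem shortExact_of_app (S : ShortComplex X.Modules)
    (h1 : ∀ T : X.Opens, Function.Injective (S.f.app T))
    (h2 : ∀ (T : X.Opens) (x : Γ(S.X₂, T)), S.g.app T x = 0 → ∃ y : Γ(S.X₁, T), S.f.app T y = x)
    (h3 : ∀ T : X.Opens, Function.Surjective (S.g.app T)) : S.ShortExact :=
  haveI := mono_of_app_injective S.f h1
  haveI := epi_of_app_surjective S.g h3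
  ShortComplex.ShortExact.mk (exact_of_app S h2)

end Sections

/-- `j_* j^*` for the inclusion of an open -/
noncomputable abbrev GU (U : X.Opens) : X.Modules ⥤ X.Modules :=
  Scheme.Modules.restrictFunctor U.ι ⋙ Scheme.Modules.pushforward U.ι

/-- the unit `M → j_* j^* M` -/
noncomputable abbrev ηU (U : X.Opens) : 𝟭 X.Modules ⟶ GU U :=
  (Scheme.Modules.restrictAdjunction U.ι).unit

/-- the open `U ∩ T` in the form in which it appears in the sections of `j_* j^* M` -/
abbrev cap (U T : X.Opens) : X.Opens := U.ι ''ᵁ (U.ι ⁻¹ᵁ T)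

lemma cap_eq (U T : X.Opens) : cap U T = U ⊓ T := by
  rw [cap, Scheme.Hom.image_preimage_eq_opensRange_inf, Scheme.Opens.opensRange_ι]

lemma cap_le (U T : X.Opens) : cap U T ≤ T := U.ι.image_preimage_le T

lemma cap_le_left (U T : X.Opens) : cap U T ≤ U := by
  rw [cap_eq]; exact inf_le_left

lemma cap_mono {W U : X.Opens} (h : W ≤ U) (T : X.Opens) : cap W T ≤ cap U T := by
  rw [cap_eq, cap_eq]
  exact inf_le_inf_right T h

lemma cap_cap_of_le {W U : X.Opens} (h : W ≤ U) (T : X.Opens) : cap U (cap W T) = cap W T := by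
  rw [cap_eq, cap_eq]
  exact inf_eq_right.2 (inf_le_left.trans h)

lemma ηU_app_app (U : X.Opens) (M : X.Modules) (T : X.Opens) :
    ((ηU U).app M).app T = M.presheaf.map (homOfLE (cap_le U T)).op := rfl

lemma GU_map_app (U : X.Opens) {M N : X.Modules} (φ : M ⟶ N) (T : X.Opens) :
    ((GU U).map φ).app T = φ.app (cap U T) := rfl

lemma isIso_presheaf_map_of_eq (M : X.Modules) {A B : X.Opens} (h : A ≤ B) (h' : B ≤ A) :
    IsIso (M.presheaf.map (homOfLE h).op) := by
  haveI : IsIso (homOfLE h) := ⟨⟨homOfLE h', Subsingleton.elim _ _, Subsingleton.elim _ _⟩⟩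
  infer_instance

theorem isIso_GU_map_ηU {W U : X.Opens} (h : W ≤ U) (M : X.Modules) :
    IsIso ((GU W).map ((ηU U).app M)) := by
  rw [Scheme.Modules.Hom.isIso_iff_isIso_app]
  intro T
  rw [GU_map_app, ηU_app_app]
  exact isIso_presheaf_map_of_eq M _ (le_of_eq (cap_cap_of_le h T).symm)

theorem isIso_whiskerRight_ηU {W U : X.Opens} (h : W ≤ U) :
    IsIso (Functor.whiskerRight (ηU U) (GU W)) := by
  haveI : ∀ M, IsIso ((Functor.whiskerRight (ηU U) (GU W)).app M) :=
    fun M => isIso_GU_map_ηU h M
  exact NatIso.isIso_of_isIso_app _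

/-- the restriction `j_{U*} j_U^* → j_{W*} j_W^*` for `W ≤ U` -/
noncomputable def σ {W U : X.Opens} (h : W ≤ U) : GU U ⟶ GU W :=
  haveI := isIso_whiskerRight_ηU h
  Functor.whiskerLeft (GU U) (ηU W) ≫ inv (Functor.whiskerRight (ηU U) (GU W)) ≫
    (Functor.leftUnitor (GU W)).hom

lemma σ_comp {W U : X.Opens} (h : W ≤ U) (M : X.Modules) :
    (σ h).app M ≫ (GU W).map ((ηU U).app M) = (ηU W).app ((GU U).obj M) := by
  haveI := isIso_whiskerRight_ηU h
  have h1 : σ h ≫ (Functor.leftUnitor (GU W)).inv ≫ Functor.whiskerRight (ηU U) (GU W) =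
      Functor.whiskerLeft (GU U) (ηU W) := by
    simp [σ]
  have h2 := congrArg (fun α => α.app M) h1
  simpa using h2

lemma σ_app_app {W U : X.Opens} (h : W ≤ U) (M : X.Modules) (T : X.Opens) :
    ((σ h).app M).app T = M.presheaf.map (homOfLE (cap_mono h T)).op := by
  have h1 := congrArg (fun φ => φ.app T) (σ_comp h M)
  simp only [Scheme.Modules.Hom.comp_app] at h1
  rw [GU_map_app, ηU_app_app, ηU_app_app] at h1
  haveI := isIso_presheaf_map_of_eq M (cap_le U (cap W T)) (le_of_eq (cap_cap_of_le h T).symm)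
  have h2 : ((σ h).app M).app T ≫ M.presheaf.map (homOfLE (cap_le U (cap W T))).op =
      M.presheaf.map (homOfLE (cap_mono h T)).op ≫
        M.presheaf.map (homOfLE (cap_le U (cap W T))).op := by
    refine h1.trans ?_
    rw [← Functor.map_comp]
    rfl
  exact (cancel_mono (M.presheaf.map (homOfLE (cap_le U (cap W T))).op)).1 h2

/-- elementwise form -/
lemma σ_app_apply {W U : X.Opens} (h : W ≤ U) (M : X.Modules) (T : X.Opens)
    (x : Γ((GU U).obj M, T)) :
    ((σ h).app M).app T x = res M (cap_mono h T) x := by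
  rw [σ_app_app]
  rfl

end Groth.Agent.Lib.Helper5.MV
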