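import Mathlib
import Groth.Agent.Lib.Helper5.MV.MVSes

/-!
# The Mayer–Vietoris short exact sequence of an injective module, II (helper5)
-/

set_option autoImplicit false
universe u
open CategoryTheory CategoryTheory.Limits Opposite TopologicalSpace AlgebraicGeometry

namespace Groth.Agent.Lib.Helper5.MV

open Groth.Agent.Lib.Helper5.QC Groth.Agent.Helper1.QcCech Groth.Agent.Helper1.QcsLoc

variable {X : Scheme.{u}}

lemma σ_trans {W U T : X.Opens} (h : W ≤ U) (h' : U ≤ T) :
    σ h' ≫ σ h = σ (h.trans h') := by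
  apply NatTrans.ext
  funext M
  apply Scheme.Modules.hom_ext
  intro O
  rw [NatTrans.comp_app, Scheme.Modules.Hom.comp_app, σ_app_app, σ_app_app, σ_app_app]
  exact (M.presheaf.map_comp (homOfLE (cap_mono h' O)).op (homOfLE (cap_mono h O)).op).symm

/-- the data of a Mayer–Vietoris situation: `T = U ∪ V`, `W = U ∩ V` -/
structure MVData (T U V W : X.Opens) : Prop where
  hUT : U ≤ T
  hVT : V ≤ T
  hT : T ≤ U ⊔ V
  hWU : W ≤ U
  hWV : W ≤ V
  hW : U ⊓ V ≤ W

lemma MVData.mk' (U V : X.Opens) : MVData (U ⊔ V) U V (U ⊓ V) :=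
  ⟨le_sup_left, le_sup_right, le_rfl, inf_le_left, inf_le_right, le_rfl⟩

lemma MVData.of_top (U V : X.Opens) (h : U ⊔ V = ⊤) : MVData ⊤ U V (U ⊓ V) :=
  ⟨le_top, le_top, h.ge, inf_le_left, inf_le_right, le_rfl⟩

variable {T U V W : X.Opens} (D : MVData T U V W)

/-- the Mayer–Vietoris short complex `j_{T*}M|_T → j_{U*}M|_U ⊕ j_{V*}M|_V → j_{W*}M|_W` -/
noncomputable def mvSC (M : X.Modules) : ShortComplex X.Modules where
  X₁ := (GU T).obj M
  X₂ := (GU U).obj M ⊞ (GU V).obj M
  X₃ := (GU W).obj M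
  f := biprod.lift ((σ D.hUT).app M) ((σ D.hVT).app M)
  g := biprod.desc ((σ D.hWU).app M) (-(σ D.hWV).app M)
  zero := by
    rw [biprod.lift_desc, Preadditive.comp_neg, ← NatTrans.comp_app, ← NatTrans.comp_app,
      σ_trans, σ_trans]
    exact add_neg_cancel _

variable (M : X.Modules)

lemma mvSC_f_fst_apply (O : X.Opens) (x : Γ((GU T).obj M, O)) :
    (biprod.fst : (GU U).obj M ⊞ (GU V).obj M ⟶ _).app O ((mvSC D M).f.app O x) =
      res M (cap_mono D.hUT O) x := by
  have h : (mvSC D M).f ≫ biprod.fst = (σ D.hUT).app M := biprod.lift_fst _ _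
  have h2 := congrArg (fun φ => φ.app O x) h
  exact h2.trans (σ_app_apply D.hUT M O x)

lemma mvSC_f_snd_apply (O : X.Opens) (x : Γ((GU T).obj M, O)) :
    (biprod.snd : (GU U).obj M ⊞ (GU V).obj M ⟶ _).app O ((mvSC D M).f.app O x) =
      res M (cap_mono D.hVT O) x := by
  have h : (mvSC D M).f ≫ biprod.snd = (σ D.hVT).app M := biprod.lift_snd _ _
  have h2 := congrArg (fun φ => φ.app O x) h
  exact h2.trans (σ_app_apply D.hVT M O x)

/-- elements of the sections of a biproduct are determined by their components -/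
lemma biprod_app_ext {A B : X.Modules} (O : X.Opens) (y y' : Γ(A ⊞ B, O))
    (h1 : (biprod.fst : A ⊞ B ⟶ A).app O y = (biprod.fst : A ⊞ B ⟶ A).app O y')
    (h2 : (biprod.snd : A ⊞ B ⟶ B).app O y = (biprod.snd : A ⊞ B ⟶ B).app O y') : y = y' := by
  have ht : (biprod.fst ≫ biprod.inl + biprod.snd ≫ biprod.inr : A ⊞ B ⟶ A ⊞ B) = 𝟙 _ :=
    biprod.total
  have e : ∀ z : Γ(A ⊞ B, O), z = (biprod.inl : A ⟶ A ⊞ B).app O ((biprod.fst : A ⊞ B ⟶ A).app O z) +
      (biprod.inr : B ⟶ A ⊞ B).app O ((biprod.snd : A ⊞ B ⟶ B).app O z) := by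
    intro z
    have := congrArg (fun φ => φ.app O z) ht
    exact this.symm
  rw [e y, e y', h1, h2]

lemma mvSC_g_apply (O : X.Opens) (y : Γ((GU U).obj M ⊞ (GU V).obj M, O)) :
    (mvSC D M).g.app O y =
      res M (cap_mono D.hWU O) ((biprod.fst : (GU U).obj M ⊞ (GU V).obj M ⟶ _).app O y) -
      res M (cap_mono D.hWV O) ((biprod.snd : (GU U).obj M ⊞ (GU V).obj M ⟶ _).app O y) := by
  have ht : (biprod.fst ≫ biprod.inl + biprod.snd ≫ biprod.inr :
      (GU U).obj M ⊞ (GU V).obj M ⟶ (GU U).obj M ⊞ (GU V).obj M) = 𝟙 _ := biprod.total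
  have h : (mvSC D M).g = biprod.fst ≫ (σ D.hWU).app M - biprod.snd ≫ (σ D.hWV).app M := by
    apply biprod.hom_ext' <;> simp [mvSC]
  rw [h]
  change ((σ D.hWU).app M).app O _ - ((σ D.hWV).app M).app O _ = _
  rw [σ_app_apply, σ_app_apply]
  rfl

include D in
lemma cap_T_le (O : X.Opens) : cap T O ≤ cap U O ⊔ cap V O := by
  rw [cap_eq, cap_eq, cap_eq, ← inf_sup_right]
  exact inf_le_inf_right O D.hT

include D in
lemma cap_inf_le (O : X.Opens) : cap U O ⊓ cap V O ≤ cap W O := by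
  rw [cap_eq, cap_eq, cap_eq]
  refine le_inf (le_trans ?_ D.hW) (inf_le_left.trans inf_le_right)
  exact le_inf (inf_le_left.trans inf_le_left) (inf_le_right.trans inf_le_left)

/-- injectivity on sections -/
theorem mvSC_f_injective (O : X.Opens) : Function.Injective ((mvSC D M).f.app O) := by
  intro x x' hxx
  have h1 : res M (cap_mono D.hUT O) x = res M (cap_mono D.hUT O) x' := by
    rw [← mvSC_f_fst_apply D M O x, ← mvSC_f_fst_apply D M O x', hxx]
  have h2 : res M (cap_mono D.hVT O) x = res M (cap_mono D.hVT O) x' := by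
    rw [← mvSC_f_snd_apply D M O x, ← mvSC_f_snd_apply D M O x', hxx]
  exact eq_of_res₂' M (cap_mono D.hUT O) (cap_mono D.hVT O) (cap_T_le D O) x x' h1 h2

/-- exactness on sections -/
theorem mvSC_exact_app (O : X.Opens) (y : Γ((GU U).obj M ⊞ (GU V).obj M, O))
    (hy : (mvSC D M).g.app O y = 0) : ∃ x, (mvSC D M).f.app O x = y := by
  let a : Γ(M, cap U O) := (biprod.fst : (GU U).obj M ⊞ (GU V).obj M ⟶ _).app O y
  let b : Γ(M, cap V O) := (biprod.snd : (GU U).obj M ⊞ (GU V).obj M ⟶ _).app O y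
  have hy' : res M (cap_mono D.hWU O) a - res M (cap_mono D.hWV O) b = 0 :=
    (mvSC_g_apply D M O y).symm.trans hy
  have hy'' : res M (cap_mono D.hWU O) a = res M (cap_mono D.hWV O) b := sub_eq_zero.1 hy'
  have hab : res M (inf_le_left : cap U O ⊓ cap V O ≤ cap U O) a =
      res M (inf_le_right : cap U O ⊓ cap V O ≤ cap V O) b := by
    have := congrArg (res M (cap_inf_le D O)) hy''
    rw [res_res, res_res] at this
    exact this
  obtain ⟨c, hc1, hc2⟩ := glue₂ M a b hab
  refine ⟨res M (cap_T_le D O) c, ?_⟩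
  apply biprod_app_ext
  · rw [mvSC_f_fst_apply D M O, res_res]
    exact hc1
  · rw [mvSC_f_snd_apply D M O, res_res]
    exact hc2

/-- surjectivity on sections for injective modules -/
theorem mvSC_g_surjective [Injective M] (O : X.Opens) :
    Function.Surjective ((mvSC D M).g.app O) := by
  intro z
  obtain ⟨a, ha⟩ := surjective_res_of_injective M (cap_mono D.hWU O) z
  refine ⟨(biprod.inl : (GU U).obj M ⟶ (GU U).obj M ⊞ (GU V).obj M).app O a, ?_⟩
  rw [mvSC_g_apply]
  have h1 : (biprod.fst : (GU U).obj M ⊞ (GU V).obj M ⟶ _).app O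
      ((biprod.inl : (GU U).obj M ⟶ (GU U).obj M ⊞ (GU V).obj M).app O a) = a := by
    have := congrArg (fun φ => φ.app O a)
      (biprod.inl_fst : (biprod.inl : (GU U).obj M ⟶ (GU U).obj M ⊞ (GU V).obj M) ≫ _ = _)
    exact this
  have h2 : (biprod.snd : (GU U).obj M ⊞ (GU V).obj M ⟶ _).app O
      ((biprod.inl : (GU U).obj M ⟶ (GU U).obj M ⊞ (GU V).obj M).app O a) = 0 := by
    have := congrArg (fun φ => φ.app O a)
      (biprod.inl_snd : (biprod.inl : (GU U).obj M ⟶ (GU U).obj M ⊞ (GU V).obj M) ≫ _ = _)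
    exact this
  rw [h1, h2]
  show res M (cap_mono D.hWU O) a - res M (cap_mono D.hWV O) (0 : Γ(M, cap V O)) = z
  rw [(res M (cap_mono D.hWV O)).map_zero, sub_zero]
  exact ha

/-- **the Mayer–Vietoris sequence of an injective module is short exact** -/
theorem mvSC_shortExact [Injective M] : (mvSC D M).ShortExact :=
  shortExact_of_app _ (mvSC_f_injective D M) (mvSC_exact_app D M) (mvSC_g_surjective D M)

end Groth.Agent.Lib.Helper5.MV
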