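import Mathlib
import Groth.Agent.Lib.Helper5.MV.MVSes2
import Groth.Agent.S11327

/-!
# The Mayer–Vietoris short exact sequence of complexes (helper5)
-/

set_option autoImplicit false
universe u
open CategoryTheory CategoryTheory.Limits Opposite TopologicalSpace AlgebraicGeometry

namespace Groth.Agent.Lib.Helper5.MV

variable {X Y : Scheme.{u}}

/-- `j_* j^*` preserves injectives -/
theorem injective_GU (U : X.Opens) (M : X.Modules) [Injective M] : Injective ((GU U).obj M) := by
  haveI : Injective (M.restrict U.ι) := Groth.Agent.S11327.result X U M inferInstance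
  haveI : (Scheme.Modules.restrictFunctor U.ι).PreservesMonomorphisms := inferInstance
  exact Injective.injective_of_adjoint (Scheme.Modules.restrictAdjunction U.ι) (M.restrict U.ι)

/-- `j_* j^*` on complexes -/
noncomputable abbrev GC (U : X.Opens) :
    CochainComplex X.Modules ℤ ⥤ CochainComplex X.Modules ℤ :=
  (GU U).mapHomologicalComplex (ComplexShape.up ℤ)

/-- the restriction maps on complexes -/
noncomputable abbrev σC {W U : X.Opens} (h : W ≤ U) : GC U ⟶ GC W :=
  NatTrans.mapHomologicalComplex (σ h) (ComplexShape.up ℤ)

lemma σC_trans {W U T : X.Opens} (h : W ≤ U) (h' : U ≤ T) :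
    σC h' ≫ σC h = σC (h.trans h') := by
  show NatTrans.mapHomologicalComplex (σ h') _ ≫ NatTrans.mapHomologicalComplex (σ h) _ =
    NatTrans.mapHomologicalComplex (σ (h.trans h')) _
  rw [← NatTrans.mapHomologicalComplex_comp, σ_trans]

variable {T U V W : X.Opens} (D : MVData T U V W) (I : CochainComplex X.Modules ℤ)

/-- the Mayer–Vietoris short complex of complexes -/
noncomputable def mvCx : ShortComplex (CochainComplex X.Modules ℤ) where
  X₁ := (GC T).obj I
  X₂ := (GC U).obj I ⊞ (GC V).obj I
  X₃ := (GC W).obj I
  f := biprod.lift ((σC D.hUT).app I) ((σC D.hVT).app I)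
  g := biprod.desc ((σC D.hWU).app I) (-(σC D.hWV).app I)
  zero := by
    rw [biprod.lift_desc, Preadditive.comp_neg, ← NatTrans.comp_app, ← NatTrans.comp_app,
      σC_trans, σC_trans]
    exact add_neg_cancel _

/-- the Mayer–Vietoris short complex of complexes, degreewise -/
noncomputable def mvCxEvalIso (n : ℤ) :
    (mvCx D I).map (HomologicalComplex.eval X.Modules (ComplexShape.up ℤ) n) ≅
      mvSC D (I.X n) :=
  ShortComplex.isoMk (Iso.refl _)
    ((HomologicalComplex.eval X.Modules (ComplexShape.up ℤ) n).mapBiprod _ _) (Iso.refl _)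
    (by
      refine (Category.id_comp _).trans ?_
      exact (biprod.map_lift_mapBiprod (HomologicalComplex.eval X.Modules (ComplexShape.up ℤ) n)
        ((GC U).obj I) ((GC V).obj I) ((σC D.hUT).app I) ((σC D.hVT).app I)).symm)
    (by
      refine Eq.trans ?_ (Category.comp_id _).symm
      exact biprod.mapBiprod_hom_desc (HomologicalComplex.eval X.Modules (ComplexShape.up ℤ) n)
        ((GC U).obj I) ((GC V).obj I) ((σC D.hWU).app I) (-(σC D.hWV).app I))

variable (hI : ∀ n, Injective (I.X n))

include hI in
theorem mvCx_shortExact : (mvCx D I).ShortExact := by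
  apply HomologicalComplex.shortExact_of_degreewise_shortExact
  intro n
  haveI := hI n
  exact ShortComplex.shortExact_of_iso (mvCxEvalIso D I n).symm (mvSC_shortExact D (I.X n))

include hI in
/-- the Mayer–Vietoris short exact sequence remains exact after pushing forward -/
theorem mvCx_map_shortExact (F : X.Modules ⥤ Y.Modules) [F.Additive] :
    ((mvCx D I).map (F.mapHomologicalComplex (ComplexShape.up ℤ))).ShortExact := by
  apply HomologicalComplex.shortExact_of_degreewise_shortExact
  intro n
  haveI := hI n
  haveI : Injective (mvSC D (I.X n)).X₁ := injective_GU T (I.X n)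
  have hs : ((mvSC D (I.X n)).map F).ShortExact :=
    ((mvSC_shortExact D (I.X n)).splittingOfInjective.map F).shortExact
  let e : ((mvCx D I).map (F.mapHomologicalComplex (ComplexShape.up ℤ))).map
      (HomologicalComplex.eval Y.Modules (ComplexShape.up ℤ) n) ≅ (mvSC D (I.X n)).map F :=
    F.mapShortComplex.mapIso (mvCxEvalIso D I n)
  exact ShortComplex.shortExact_of_iso e.symm hs

end Groth.Agent.Lib.Helper5.MV
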