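import Mathlib
import Groth.Prelude.Def_DCoh3
import Groth.Agent.Lib.Helper5.MV.MVCx
import Groth.Agent.Lib.Helper5.Stalk.RpushRes
import Groth.Agent.Lib.Helper5.Stalk.LpullAdj
import Groth.Agent.Lib.Helper3.KInjD

/-!
# The Mayer–Vietoris distinguished triangle for `Rf_*` (helper5)
-/

set_option autoImplicit false
universe u
open CategoryTheory CategoryTheory.Limits Opposite TopologicalSpace AlgebraicGeometry
open Pretriangulated

attribute [local instance] HasDerivedCategory.standard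

namespace Groth.Agent.Lib.Helper5.MV

open Groth.Agent.Lib.Helper5.LpullLib Groth.Agent.Helper3.KInjDer Groth.Agent.Lib.Helper5.RpushRes

section General

variable {C : Type*} [Category C] [Preadditive C] [HasZeroObject C] [HasShift C ℤ]
  [∀ n : ℤ, (shiftFunctor C n).Additive] [Pretriangulated C]

/-- transport of a distinguished triangle along isomorphisms of its vertices -/
theorem exists_distinguished_of_isos (T : Triangle C) (hT : T ∈ distTriang C) {A B C' : C}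
    (eA : T.obj₁ ≅ A) (eB : T.obj₂ ≅ B) (eC : T.obj₃ ≅ C') :
    ∃ (a : A ⟶ B) (b : B ⟶ C') (c : C' ⟶ A⟦(1 : ℤ)⟧), Triangle.mk a b c ∈ distTriang C := by
  refine ⟨eA.inv ≫ T.mor₁ ≫ eB.hom, eB.inv ≫ T.mor₂ ≫ eC.hom,
    eC.inv ≫ T.mor₃ ≫ (shiftFunctor C (1 : ℤ)).map eA.hom, ?_⟩
  refine isomorphic_distinguished _ hT _ (Triangle.isoMk _ _ eA.symm eB.symm eC.symm ?_ ?_ ?_)
  · show (eA.inv ≫ T.mor₁ ≫ eB.hom) ≫ eB.inv = eA.inv ≫ T.mor₁
    rw [Category.assoc, Category.assoc, Iso.hom_inv_id, Category.comp_id]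
  · show (eB.inv ≫ T.mor₂ ≫ eC.hom) ≫ eC.inv = eB.inv ≫ T.mor₂
    rw [Category.assoc, Category.assoc, Iso.hom_inv_id, Category.comp_id]
  · show (eC.inv ≫ T.mor₃ ≫ (shiftFunctor C (1 : ℤ)).map eA.hom) ≫
      (shiftFunctor C (1 : ℤ)).map eA.inv = eC.inv ≫ T.mor₃
    rw [Category.assoc, Category.assoc, ← Functor.map_comp, Iso.hom_inv_id,
      CategoryTheory.Functor.map_id, Category.comp_id]

end General

variable {X Y : Scheme.{u}}

/-- `Rg_*` is computed by `g_*` on K-injective complexes -/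
noncomputable def rpushObjIso {Z : Scheme.{u}} (g : Z ⟶ Y) [DCoh.HasRpush g]
    (J : CochainComplex Z.Modules ℤ) [J.IsKInjective] :
    (DCoh.Rpush g).obj (DerivedCategory.Q.obj J) ≅
      DerivedCategory.Q.obj
        (((Scheme.Modules.pushforward g).mapHomologicalComplex (ComplexShape.up ℤ)).obj J) :=
  haveI : IsIso ((rpushUnit g).app
      ((HomotopyCategory.quotient Z.Modules (ComplexShape.up ℤ)).obj J)) :=
    isIso_unit_app (DCoh.pushKh g) (rpushUnit g) J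
  (asIso ((rpushUnit g).app
    ((HomotopyCategory.quotient Z.Modules (ComplexShape.up ℤ)).obj J))).symm

variable (f : X ⟶ Y)

/-- `f_*` on complexes -/
noncomputable abbrev pushC : CochainComplex X.Modules ℤ ⥤ CochainComplex Y.Modules ℤ :=
  (Scheme.Modules.pushforward f).mapHomologicalComplex (ComplexShape.up ℤ)

/-- the vertex `Q(f_* j_{O*} j_O^* I) ≅ R(j_O ≫ f)_* (E|_O)` -/
noncomputable def vertexIso (O : X.Opens) (aO : (O : Scheme.{u}) ⟶ Y) (hO : aO = O.ι ≫ f)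
    [DCoh.HasRpush aO] (I : CochainComplex X.Modules ℤ) [I.IsKInjective] (E : DCoh.D X)
    (eE : E ≅ DerivedCategory.Q.obj I) :
    DerivedCategory.Q.obj ((pushC f).obj ((GC O).obj I)) ≅
      (DCoh.Rpush aO).obj ((DCoh.restrictD O.ι).obj E) := by
  subst hO
  haveI := isKInjective_restrict O I
  let J : CochainComplex (O : Scheme.{u}).Modules ℤ :=
    ((Scheme.Modules.restrictFunctor O.ι).mapHomologicalComplex (ComplexShape.up ℤ)).obj I
  let e1 : (pushC f).obj ((GC O).obj I) ≅ (pushC (O.ι ≫ f)).obj J :=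
    (NatIso.mapHomologicalComplex (Scheme.Modules.pushforwardComp O.ι f)
      (ComplexShape.up ℤ)).app J
  exact DerivedCategory.Q.mapIso e1 ≪≫ (rpushObjIso (O.ι ≫ f) J).symm ≪≫
    (DCoh.Rpush (O.ι ≫ f)).mapIso
      (((Scheme.Modules.restrictFunctor O.ι).mapDerivedCategoryFactors.app I).symm ≪≫
        (DCoh.restrictD O.ι).mapIso eE.symm)

variable {T U V W : X.Opens}

/-- **the Mayer–Vietoris triangle, core form** -/
theorem exists_mv_triangle_core (D : MVData T U V W) (I : CochainComplex X.Modules ℤ) (hI : ∀ n, Injective (I.X n))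
    {A B₁ B₂ C' : DCoh.D Y}
    (eA : DerivedCategory.Q.obj ((pushC f).obj ((GC T).obj I)) ≅ A)
    (eB₁ : DerivedCategory.Q.obj ((pushC f).obj ((GC U).obj I)) ≅ B₁)
    (eB₂ : DerivedCategory.Q.obj ((pushC f).obj ((GC V).obj I)) ≅ B₂)
    (eC : DerivedCategory.Q.obj ((pushC f).obj ((GC W).obj I)) ≅ C') :
    ∃ (a : A ⟶ B₁ ⊞ B₂) (b : B₁ ⊞ B₂ ⟶ C') (c : C' ⟶ A⟦(1 : ℤ)⟧),
      Triangle.mk a b c ∈ distTriang (DCoh.D Y) := by
  have hS := mvCx_map_shortExact D I hI (Scheme.Modules.pushforward f)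
  have hT := DerivedCategory.triangleOfSES_distinguished hS
  haveI : (pushC f ⋙ DerivedCategory.Q).Additive := inferInstance
  haveI : PreservesBinaryBiproducts (pushC f ⋙ DerivedCategory.Q) :=
    preservesBinaryBiproducts_of_preservesBiproducts _
  let eB : (DerivedCategory.triangleOfSES hS).obj₂ ≅ B₁ ⊞ B₂ :=
    (pushC f ⋙ DerivedCategory.Q).mapBiprod ((GC U).obj I) ((GC V).obj I) ≪≫
      biprod.mapIso eB₁ eB₂
  exact exists_distinguished_of_isos _ hT eA eB eC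

end Groth.Agent.Lib.Helper5.MV

namespace Groth.Agent.Lib.Helper5.MV

open Groth.Agent.Lib.Helper5.LpullLib Groth.Agent.Helper3.KInjDer Groth.Agent.Lib.Helper5.RpushRes

variable {X Y : Scheme.{u}}

theorem isIso_ηU_top (M : X.Modules) : IsIso ((ηU (⊤ : X.Opens)).app M) := by
  rw [Scheme.Modules.Hom.isIso_iff_isIso_app]
  intro O
  rw [ηU_app_app]
  exact isIso_presheaf_map_of_eq M _ (by rw [cap_eq]; exact le_inf le_top le_rfl)

/-- `I ≅ j_* j^* I` for `j` the inclusion of the whole space -/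
noncomputable def ηTopIso (I : CochainComplex X.Modules ℤ) : I ≅ (GC (⊤ : X.Opens)).obj I :=
  HomologicalComplex.Hom.isoOfComponents
    (fun n => @asIso _ _ _ _ ((ηU (⊤ : X.Opens)).app (I.X n)) (isIso_ηU_top (I.X n)))
    (fun i j _ => ((ηU (⊤ : X.Opens)).naturality (I.d i j)).symm)

/-- every object is represented by a K-injective complex with injective terms -/
theorem exists_kInjective_injective_repr (E : DCoh.D X) :
    ∃ (I : CochainComplex X.Modules ℤ), I.IsKInjective ∧ (∀ n, Injective (I.X n)) ∧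
      Nonempty (E ≅ DerivedCategory.Q.obj I) := by
  obtain ⟨I, p, hI, hp, -, hinj⟩ :=
    Groth.Agent.Helper3.KInjD.exists_kInjective_resolution (DerivedCategory.Q.objPreimage E)
  haveI : IsIso (DerivedCategory.Q.map p) := (DerivedCategory.isIso_Q_map_iff_quasiIso _ _).2 hp
  exact ⟨I, hI, hinj, ⟨(DerivedCategory.Q.objObjPreimageIso E).symm ≪≫
    asIso (DerivedCategory.Q.map p)⟩⟩

/-- **Mayer–Vietoris for `Rf_*`**, general form with arbitrary `T = U ∪ V`, `W = U ∩ V` -/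
theorem exists_mv_triangle (f : X ⟶ Y) {T U V W : X.Opens} (D : MVData T U V W)
    (aT : (T : Scheme.{u}) ⟶ Y) (aU : (U : Scheme.{u}) ⟶ Y) (aV : (V : Scheme.{u}) ⟶ Y)
    (aW : (W : Scheme.{u}) ⟶ Y) (hT : aT = T.ι ≫ f) (hU : aU = U.ι ≫ f) (hV : aV = V.ι ≫ f)
    (hW : aW = W.ι ≫ f) [DCoh.HasRpush aT] [DCoh.HasRpush aU] [DCoh.HasRpush aV]
    [DCoh.HasRpush aW] (E : DCoh.D X) :
    ∃ (a : (DCoh.Rpush aT).obj ((DCoh.restrictD T.ι).obj E) ⟶
        (DCoh.Rpush aU).obj ((DCoh.restrictD U.ι).obj E) ⊞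
          (DCoh.Rpush aV).obj ((DCoh.restrictD V.ι).obj E))
      (b : (DCoh.Rpush aU).obj ((DCoh.restrictD U.ι).obj E) ⊞
          (DCoh.Rpush aV).obj ((DCoh.restrictD V.ι).obj E) ⟶
        (DCoh.Rpush aW).obj ((DCoh.restrictD W.ι).obj E))
      (c : (DCoh.Rpush aW).obj ((DCoh.restrictD W.ι).obj E) ⟶
        ((DCoh.Rpush aT).obj ((DCoh.restrictD T.ι).obj E))⟦(1 : ℤ)⟧),
      Triangle.mk a b c ∈ distTriang (DCoh.D Y) := by
  obtain ⟨I, hI, hinj, ⟨eE⟩⟩ := exists_kInjective_injective_repr E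
  haveI := hI
  exact exists_mv_triangle_core f D I hinj (vertexIso f T aT hT I E eE)
    (vertexIso f U aU hU I E eE) (vertexIso f V aV hV I E eE) (vertexIso f W aW hW I E eE)

/-- **Mayer–Vietoris for `Rf_*`** when `X = U ∪ V` -/
theorem exists_mv_triangle_top (f : X ⟶ Y) {U V W : X.Opens} (D : MVData ⊤ U V W)
    (aU : (U : Scheme.{u}) ⟶ Y) (aV : (V : Scheme.{u}) ⟶ Y)
    (aW : (W : Scheme.{u}) ⟶ Y) (hU : aU = U.ι ≫ f) (hV : aV = V.ι ≫ f)
    (hW : aW = W.ι ≫ f) [DCoh.HasRpush f] [DCoh.HasRpush aU] [DCoh.HasRpush aV]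
    [DCoh.HasRpush aW] (E : DCoh.D X) :
    ∃ (a : (DCoh.Rpush f).obj E ⟶
        (DCoh.Rpush aU).obj ((DCoh.restrictD U.ι).obj E) ⊞
          (DCoh.Rpush aV).obj ((DCoh.restrictD V.ι).obj E))
      (b : (DCoh.Rpush aU).obj ((DCoh.restrictD U.ι).obj E) ⊞
          (DCoh.Rpush aV).obj ((DCoh.restrictD V.ι).obj E) ⟶
        (DCoh.Rpush aW).obj ((DCoh.restrictD W.ι).obj E))
      (c : (DCoh.Rpush aW).obj ((DCoh.restrictD W.ι).obj E) ⟶
        ((DCoh.Rpush f).obj E)⟦(1 : ℤ)⟧),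
      Triangle.mk a b c ∈ distTriang (DCoh.D Y) := by
  obtain ⟨I, hI, hinj, ⟨eE⟩⟩ := exists_kInjective_injective_repr E
  haveI := hI
  let eA : DerivedCategory.Q.obj ((pushC f).obj ((GC (⊤ : X.Opens)).obj I)) ≅
      (DCoh.Rpush f).obj E :=
    DerivedCategory.Q.mapIso ((pushC f).mapIso (ηTopIso I).symm) ≪≫ (rpushObjIso f I).symm ≪≫
      (DCoh.Rpush f).mapIso eE.symm
  exact exists_mv_triangle_core f D I hinj eA
    (vertexIso f U aU hU I E eE) (vertexIso f V aV hV I E eE) (vertexIso f W aW hW I E eE)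

/-- **Mayer–Vietoris for `Rj_*`** when `X = U ∪ V` -/
theorem exists_mv_triangle_id {U V W : X.Opens} (D : MVData ⊤ U V W)
    [DCoh.HasRpush U.ι] [DCoh.HasRpush V.ι] [DCoh.HasRpush W.ι] (E : DCoh.D X) :
    ∃ (a : E ⟶
        (DCoh.Rpush U.ι).obj ((DCoh.restrictD U.ι).obj E) ⊞
          (DCoh.Rpush V.ι).obj ((DCoh.restrictD V.ι).obj E))
      (b : (DCoh.Rpush U.ι).obj ((DCoh.restrictD U.ι).obj E) ⊞
          (DCoh.Rpush V.ι).obj ((DCoh.restrictD V.ι).obj E) ⟶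
        (DCoh.Rpush W.ι).obj ((DCoh.restrictD W.ι).obj E))
      (c : (DCoh.Rpush W.ι).obj ((DCoh.restrictD W.ι).obj E) ⟶ E⟦(1 : ℤ)⟧),
      Triangle.mk a b c ∈ distTriang (DCoh.D X) := by
  obtain ⟨I, hI, hinj, ⟨eE⟩⟩ := exists_kInjective_injective_repr E
  haveI := hI
  let eA : DerivedCategory.Q.obj ((pushC (𝟙 X)).obj ((GC (⊤ : X.Opens)).obj I)) ≅ E :=
    DerivedCategory.Q.mapIso ((pushC (𝟙 X)).mapIso (ηTopIso I).symm ≪≫
      (NatIso.mapHomologicalComplex (Scheme.Modules.pushforwardId X) (ComplexShape.up ℤ)).app I) ≪≫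
      eE.symm
  exact exists_mv_triangle_core (𝟙 X) D I hinj eA
    (vertexIso (𝟙 X) U U.ι (Category.comp_id _).symm I E eE)
    (vertexIso (𝟙 X) V V.ι (Category.comp_id _).symm I E eE)
    (vertexIso (𝟙 X) W W.ι (Category.comp_id _).symm I E eE)

end Groth.Agent.Lib.Helper5.MV
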