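import Mathlib
import Groth.Prelude.Def_DCoh2
import Groth.Agent.Lib.Helper5.MV.MVTri
import Groth.Agent.Lib.Helper5.Stalk.Lpull

/-!
# `Rf_*` maps distinguished triangles to distinguished triangles, and preserves derived limits
(helper5)
-/

set_option autoImplicit false
universe u
open CategoryTheory CategoryTheory.Limits Opposite TopologicalSpace AlgebraicGeometry
open Pretriangulated

attribute [local instance] HasDerivedCategory.standard

namespace Groth.Agent.Lib.Helper5.MV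

open Groth.Agent.Lib.Helper5.LpullLib Groth.Agent.Helper3.KInjDer

section General

variable {C : Type*} [Category C] [Preadditive C] [HasZeroObject C] [HasShift C ℤ]
  [∀ n : ℤ, (shiftFunctor C n).Additive] [Pretriangulated C]

/-- a triangle whose first two maps are isomorphic to those of a distinguished triangle can be
completed to a distinguished triangle -/
theorem exists_mor₃_of_isos (T₀ : Triangle C) (hT₀ : T₀ ∈ distTriang C) {A B C' : C}
    (a : A ⟶ B) (b : B ⟶ C') (eA : A ≅ T₀.obj₁) (eB : B ≅ T₀.obj₂) (eC : C' ≅ T₀.obj₃)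
    (h₁ : a ≫ eB.hom = eA.hom ≫ T₀.mor₁) (h₂ : b ≫ eC.hom = eB.hom ≫ T₀.mor₂) :
    ∃ c : C' ⟶ A⟦(1 : ℤ)⟧, Triangle.mk a b c ∈ distTriang C := by
  refine ⟨eC.hom ≫ T₀.mor₃ ≫ (shiftFunctor C (1 : ℤ)).map eA.inv, ?_⟩
  refine isomorphic_distinguished _ hT₀ _ (Triangle.isoMk _ _ eA eB eC h₁ h₂ ?_)
  show (eC.hom ≫ T₀.mor₃ ≫ (shiftFunctor C (1 : ℤ)).map eA.inv) ≫
    (shiftFunctor C (1 : ℤ)).map eA.hom = eC.hom ≫ T₀.mor₃
  rw [Category.assoc, Category.assoc, ← Functor.map_comp, Iso.inv_hom_id,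
    CategoryTheory.Functor.map_id, Category.comp_id]

/-- transport of the second map of a distinguished triangle -/
theorem exists_of_iso_mor₂ (T₀ : Triangle C) (hT₀ : T₀ ∈ distTriang C) {B C' : C}
    (eB : T₀.obj₂ ≅ B) (eC : T₀.obj₃ ≅ C') (b : B ⟶ C')
    (h : T₀.mor₂ ≫ eC.hom = eB.hom ≫ b) :
    ∃ (a : T₀.obj₁ ⟶ B) (c : C' ⟶ T₀.obj₁⟦(1 : ℤ)⟧), Triangle.mk a b c ∈ distTriang C := by
  refine ⟨T₀.mor₁ ≫ eB.hom, eC.inv ≫ T₀.mor₃, ?_⟩
  refine isomorphic_distinguished _ hT₀ _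
    (Triangle.isoMk _ _ (Iso.refl _) eB.symm eC.symm ?_ ?_ ?_)
  · show (T₀.mor₁ ≫ eB.hom) ≫ eB.inv = 𝟙 _ ≫ T₀.mor₁
    rw [Category.assoc, Iso.hom_inv_id, Category.comp_id, Category.id_comp]
  · show b ≫ eC.inv = eB.inv ≫ T₀.mor₂
    rw [Iso.eq_inv_comp, ← Category.assoc, ← h, Category.assoc, Iso.hom_inv_id, Category.comp_id]
  · show (eC.inv ≫ T₀.mor₃) ≫ (shiftFunctor C (1 : ℤ)).map (𝟙 _) = eC.inv ≫ T₀.mor₃
    rw [CategoryTheory.Functor.map_id, Category.comp_id]

end General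

section Cone

variable {A : Type*} [Category A] [Abelian A]

theorem isKInjective_mappingCone' {K L : CochainComplex A ℤ} [K.IsKInjective] [L.IsKInjective]
    (φ : K ⟶ L) : (CochainComplex.mappingCone φ).IsKInjective := by
  rw [CochainComplex.isKInjective_iff_rightOrthogonal]
  exact ObjectProperty.ext_of_isTriangulatedClosed₃ _ _
    (HomotopyCategory.mappingCone_triangleh_distinguished φ)
    (CochainComplex.IsKInjective.rightOrthogonal K) (CochainComplex.IsKInjective.rightOrthogonal L)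

end Cone

variable {X Y : Scheme.{u}} (f : X ⟶ Y) [DCoh.HasRpush f]

lemma comp_inv_eq_inv_comp_aux {C : Type*} [Category C] {A B A' B' : C} (u : A ⟶ A') (v : B ⟶ B')
    [IsIso u] [IsIso v] (a : A' ⟶ B') (b : A ⟶ B) (h : u ≫ a = b ≫ v) :
    a ≫ inv v = inv u ≫ b := by
  rw [IsIso.comp_inv_eq, Category.assoc, IsIso.eq_inv_comp, h]

/-- naturality of `Rf_* Q(I) ≅ Q(f_* I)` in the K-injective complex `I` -/
@[reassoc]
lemma rpushObjIso_hom_naturality {I J : CochainComplex X.Modules ℤ} [I.IsKInjective]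
    [J.IsKInjective] (ψ : I ⟶ J) :
    (DCoh.Rpush f).map (DerivedCategory.Q.map ψ) ≫ (rpushObjIso f J).hom =
      (rpushObjIso f I).hom ≫ DerivedCategory.Q.map ((pushC f).map ψ) := by
  have h := (rpushUnit f).naturality ((HomotopyCategory.quotient X.Modules (ComplexShape.up ℤ)).map ψ)
  haveI : IsIso ((rpushUnit f).app
      ((HomotopyCategory.quotient X.Modules (ComplexShape.up ℤ)).obj I)) :=
    isIso_unit_app (DCoh.pushKh f) (rpushUnit f) I
  haveI : IsIso ((rpushUnit f).app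
      ((HomotopyCategory.quotient X.Modules (ComplexShape.up ℤ)).obj J)) :=
    isIso_unit_app (DCoh.pushKh f) (rpushUnit f) J
  exact comp_inv_eq_inv_comp_aux
    ((rpushUnit f).app ((HomotopyCategory.quotient X.Modules (ComplexShape.up ℤ)).obj I))
    ((rpushUnit f).app ((HomotopyCategory.quotient X.Modules (ComplexShape.up ℤ)).obj J))
    _ _ h.symm

/-- **`Rf_*` maps distinguished triangles to distinguished triangles** (for a suitable third map) -/
theorem exists_distinguished_rpush (T : Triangle (DCoh.D X)) (hT : T ∈ distTriang (DCoh.D X)) :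
    ∃ c : (DCoh.Rpush f).obj T.obj₃ ⟶ ((DCoh.Rpush f).obj T.obj₁)⟦(1 : ℤ)⟧,
      Triangle.mk ((DCoh.Rpush f).map T.mor₁) ((DCoh.Rpush f).map T.mor₂) c ∈
        distTriang (DCoh.D Y) := by
  obtain ⟨I, hI, -, ⟨eI⟩⟩ := exists_kInjective_injective_repr T.obj₁
  obtain ⟨J, hJ, -, ⟨eJ⟩⟩ := exists_kInjective_injective_repr T.obj₂
  haveI := hI
  haveI := hJ
  obtain ⟨ψ, hψ⟩ : ∃ ψ : I ⟶ J, DerivedCategory.Q.map ψ = eI.inv ≫ T.mor₁ ≫ eJ.hom := by
    obtain ⟨g, hg⟩ := (CochainComplex.IsKInjective.Qh_map_bijective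
      ((HomotopyCategory.quotient _ _).obj I) J).surjective (eI.inv ≫ T.mor₁ ≫ eJ.hom)
    obtain ⟨ψ, rfl⟩ := (HomotopyCategory.quotient _ _).map_surjective g
    exact ⟨ψ, hg⟩
  haveI : (CochainComplex.mappingCone ψ).IsKInjective := isKInjective_mappingCone' ψ
  let T' := DerivedCategory.Q.mapTriangle.obj (CochainComplex.mappingCone.triangle ψ)
  have hT' : T' ∈ distTriang (DCoh.D X) := DerivedCategory.mappingCone_triangle_distinguished ψ
  have hcomm : T.mor₁ ≫ eJ.hom = eI.hom ≫ T'.mor₁ := by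
    show T.mor₁ ≫ eJ.hom = eI.hom ≫ DerivedCategory.Q.map ψ
    rw [hψ, Iso.hom_inv_id_assoc]
  let e : T ≅ T' := isoTriangleOfIso₁₂ T T' hT hT' eI eJ hcomm
  have he₁ : e.hom.hom₁ = eI.hom := isoTriangleOfIso₁₂_hom_hom₁ T T' hT hT' eI eJ hcomm
  have he₂ : e.hom.hom₂ = eJ.hom := isoTriangleOfIso₁₂_hom_hom₂ T T' hT hT' eI eJ hcomm
  let T₀ := DerivedCategory.Q.mapTriangle.obj
    (CochainComplex.mappingCone.triangle ((pushC f).map ψ))
  have hT₀ : T₀ ∈ distTriang (DCoh.D Y) := DerivedCategory.mappingCone_triangle_distinguished _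
  let eA : (DCoh.Rpush f).obj T.obj₁ ≅ T₀.obj₁ :=
    (DCoh.Rpush f).mapIso eI ≪≫ rpushObjIso f I
  let eB : (DCoh.Rpush f).obj T.obj₂ ≅ T₀.obj₂ :=
    (DCoh.Rpush f).mapIso eJ ≪≫ rpushObjIso f J
  let eC : (DCoh.Rpush f).obj T.obj₃ ≅ T₀.obj₃ :=
    (DCoh.Rpush f).mapIso (Triangle.π₃.mapIso e) ≪≫ rpushObjIso f (CochainComplex.mappingCone ψ) ≪≫
      DerivedCategory.Q.mapIso
        (CochainComplex.mappingCone.mapHomologicalComplexIso ψ (Scheme.Modules.pushforward f))
  refine exists_mor₃_of_isos T₀ hT₀ _ _ eA eB eC ?_ ?_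
  · show (DCoh.Rpush f).map T.mor₁ ≫ (DCoh.Rpush f).map eJ.hom ≫ (rpushObjIso f J).hom =
      ((DCoh.Rpush f).map eI.hom ≫ (rpushObjIso f I).hom) ≫
        DerivedCategory.Q.map ((pushC f).map ψ)
    rw [Category.assoc, ← rpushObjIso_hom_naturality, ← Functor.map_comp_assoc,
      ← Functor.map_comp_assoc, hcomm]
    rfl
  · have h2 : T.mor₂ ≫ e.hom.hom₃ = eJ.hom ≫
        DerivedCategory.Q.map (CochainComplex.mappingCone.inr ψ) := by
      have := e.hom.comm₂
      rw [he₂] at this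
      exact this
    show (DCoh.Rpush f).map T.mor₂ ≫ (DCoh.Rpush f).map e.hom.hom₃ ≫
        (rpushObjIso f (CochainComplex.mappingCone ψ)).hom ≫
        DerivedCategory.Q.map
          (CochainComplex.mappingCone.mapHomologicalComplexIso ψ
            (Scheme.Modules.pushforward f)).hom =
      ((DCoh.Rpush f).map eJ.hom ≫ (rpushObjIso f J).hom) ≫
        DerivedCategory.Q.map (CochainComplex.mappingCone.inr ((pushC f).map ψ))
    rw [← CochainComplex.mappingCone.map_inr ψ (Scheme.Modules.pushforward f),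
      Functor.map_comp, Category.assoc, ← rpushObjIso_hom_naturality_assoc,
      ← Functor.map_comp_assoc, ← Functor.map_comp_assoc, h2]
    rfl

end Groth.Agent.Lib.Helper5.MV

namespace Groth.Agent.Lib.Helper5.MV

open Groth.Agent.Lib.Helper5.LpullLib

section Rlim

variable {X Y : Scheme.{u}} (f : X ⟶ Y) [DCoh.HasRpush f]

theorem isRightAdjoint_rpush : (DCoh.Rpush f).IsRightAdjoint :=
  haveI : DCoh.HasLpull f := hasLpull f
  (lpullRpushAdj f).isRightAdjoint

theorem additive_rpush : (DCoh.Rpush f).Additive := by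
  haveI := isRightAdjoint_rpush f
  haveI : PreservesLimitsOfShape (Discrete WalkingPair) (DCoh.Rpush f) := inferInstance
  haveI : PreservesBinaryBiproducts (DCoh.Rpush f) :=
    preservesBinaryBiproducts_of_preservesBinaryProducts _
  exact Functor.additive_of_preservesBinaryBiproducts _

/-- **`Rf_*` preserves derived limits** -/
theorem isRlim_rpush (K : ℕ → DCoh.D X) (t : ∀ n, K (n + 1) ⟶ K n) [HasProduct K]
    [HasProduct fun n => (DCoh.Rpush f).obj (K n)] (L : DCoh.D X) (hL : DCoh.IsRlim K t L) :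
    DCoh.IsRlim (fun n => (DCoh.Rpush f).obj (K n)) (fun n => (DCoh.Rpush f).map (t n))
      ((DCoh.Rpush f).obj L) := by
  haveI := isRightAdjoint_rpush f
  haveI := additive_rpush f
  obtain ⟨a, c, hT⟩ := hL
  obtain ⟨c', hT'⟩ := exists_distinguished_rpush f _ hT
  haveI : PreservesLimit (Discrete.functor K) (DCoh.Rpush f) := inferInstance
  let piso : (DCoh.Rpush f).obj (∏ᶜ K) ≅ ∏ᶜ fun n => (DCoh.Rpush f).obj (K n) :=
    PreservesProduct.iso (DCoh.Rpush f) K
  have hπ : ∀ n, piso.hom ≫ Pi.π (fun n => (DCoh.Rpush f).obj (K n)) n =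
      (DCoh.Rpush f).map (Pi.π K n) := fun n => piComparison_comp_π (DCoh.Rpush f) K n
  refine exists_of_iso_mor₂ _ hT' piso piso _ ?_
  apply Pi.hom_ext
  intro n
  show ((DCoh.Rpush f).map (Pi.lift fun n => Pi.π K n - Pi.π K (n + 1) ≫ t n) ≫ piso.hom) ≫
      Pi.π _ n = (piso.hom ≫ Pi.lift fun n => Pi.π (fun n => (DCoh.Rpush f).obj (K n)) n -
        Pi.π (fun n => (DCoh.Rpush f).obj (K n)) (n + 1) ≫ (DCoh.Rpush f).map (t n)) ≫ Pi.π _ n
  rw [Category.assoc, Category.assoc, hπ, Pi.lift_π, ← Functor.map_comp, Pi.lift_π,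
    Preadditive.comp_sub, ← Category.assoc, hπ, hπ, Functor.map_sub, Functor.map_comp]

end Rlim

end Groth.Agent.Lib.Helper5.MV
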