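import Mathlib
import Groth.Prelude.Def_DCoh2
import Groth.Agent.Lib.Helper5.MV.MVTri
import Groth.Agent.Lib.Helper5.MV.RpushTri

/-!
# Total right derived functors of additive functors on `O_X`-modules (helper5)

For an additive functor `F : X.Modules ⥤ B` into an abelian category, the total right derived
functor `RF : D(O_X) ⥤ D(B)` (assumed to exist) is computed on K-injective complexes and maps
distinguished triangles to distinguished triangles.
-/

set_option autoImplicit false
universe w v u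
open CategoryTheory CategoryTheory.Limits Opposite TopologicalSpace AlgebraicGeometry
open Pretriangulated

attribute [local instance] HasDerivedCategory.standard

namespace Groth.Agent.Lib.Helper5.TotalRD

open Groth.Agent.Helper3.KInjDer Groth.Agent.Lib.Helper5.MV

variable {X : Scheme.{u}} {B : Type (u + 1)} [Category.{u} B] [Abelian B]
  (F : X.Modules ⥤ B) [F.Additive]

/-- `K(O_X) ⥤ D(B)` induced by `F` -/
noncomputable abbrev FKh : HomotopyCategory X.Modules (ComplexShape.up ℤ) ⥤ DerivedCategory B :=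
  F.mapHomotopyCategory (ComplexShape.up ℤ) ⋙ DerivedCategory.Qh

variable [(FKh F).HasRightDerivedFunctor
  (HomotopyCategory.quasiIso X.Modules (ComplexShape.up ℤ))]

/-- the total right derived functor -/
noncomputable abbrev RF : DCoh.D X ⥤ DerivedCategory B :=
  (FKh F).totalRightDerived DerivedCategory.Qh
    (HomotopyCategory.quasiIso X.Modules (ComplexShape.up ℤ))

noncomputable abbrev rfUnit : FKh F ⟶ DerivedCategory.Qh ⋙ RF F :=
  (FKh F).totalRightDerivedUnit DerivedCategory.Qh
    (HomotopyCategory.quasiIso X.Modules (ComplexShape.up ℤ))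

/-- `F` on complexes -/
noncomputable abbrev FC : CochainComplex X.Modules ℤ ⥤ CochainComplex B ℤ :=
  F.mapHomologicalComplex (ComplexShape.up ℤ)

/-- `RF` is computed by `F` on K-injective complexes -/
noncomputable def rfObjIso (J : CochainComplex X.Modules ℤ) [J.IsKInjective] :
    (RF F).obj (DerivedCategory.Q.obj J) ≅ DerivedCategory.Q.obj ((FC F).obj J) :=
  haveI : IsIso ((rfUnit F).app
      ((HomotopyCategory.quotient X.Modules (ComplexShape.up ℤ)).obj J)) :=
    isIso_unit_app (FKh F) (rfUnit F) J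
  (asIso ((rfUnit F).app
    ((HomotopyCategory.quotient X.Modules (ComplexShape.up ℤ)).obj J))).symm

@[reassoc]
lemma rfObjIso_hom_naturality {I J : CochainComplex X.Modules ℤ} [I.IsKInjective]
    [J.IsKInjective] (ψ : I ⟶ J) :
    (RF F).map (DerivedCategory.Q.map ψ) ≫ (rfObjIso F J).hom =
      (rfObjIso F I).hom ≫ DerivedCategory.Q.map ((FC F).map ψ) := by
  have h := (rfUnit F).naturality ((HomotopyCategory.quotient X.Modules (ComplexShape.up ℤ)).map ψ)
  haveI : IsIso ((rfUnit F).app
      ((HomotopyCategory.quotient X.Modules (ComplexShape.up ℤ)).obj I)) :=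
    isIso_unit_app (FKh F) (rfUnit F) I
  haveI : IsIso ((rfUnit F).app
      ((HomotopyCategory.quotient X.Modules (ComplexShape.up ℤ)).obj J)) :=
    isIso_unit_app (FKh F) (rfUnit F) J
  exact comp_inv_eq_inv_comp_aux
    ((rfUnit F).app ((HomotopyCategory.quotient X.Modules (ComplexShape.up ℤ)).obj I))
    ((rfUnit F).app ((HomotopyCategory.quotient X.Modules (ComplexShape.up ℤ)).obj J))
    _ _ h.symm

/-- **`RF` maps distinguished triangles to distinguished triangles** (for a suitable third map) -/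
theorem exists_distinguished_rf (T : Triangle (DCoh.D X)) (hT : T ∈ distTriang (DCoh.D X)) :
    ∃ c : (RF F).obj T.obj₃ ⟶ ((RF F).obj T.obj₁)⟦(1 : ℤ)⟧,
      Triangle.mk ((RF F).map T.mor₁) ((RF F).map T.mor₂) c ∈
        distTriang (DerivedCategory B) := by
  obtain ⟨I, hI, -, ⟨eI⟩⟩ := exists_kInjective_injective_repr T.obj₁
  obtain ⟨J, hJ, -, ⟨eJ⟩⟩ := exists_kInjective_injective_repr T.obj₂
  haveI := hI
  haveI := hJ
  obtain ⟨ψ, hψ⟩ : ∃ ψ : I ⟶ J, DerivedCategory.Q.map ψ = eI.inv ≫ T.mor₁ ≫ eJ.hom := by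
    obtain ⟨g, hg⟩ := (CochainComplex.IsKInjective.Qh_map_bijective
      ((HomotopyCategory.quotient _ _).obj I) J).surjective (eI.inv ≫ T.mor₁ ≫ eJ.hom)
    obtain ⟨ψ, rfl⟩ := (HomotopyCategory.quotient _ _).map_surjective g
    exact ⟨ψ, hg⟩
  haveI : (CochainComplex.mappingCone ψ).IsKInjective := isKInjective_mappingCone' ψ
  let T' := DerivedCategory.Q.mapTriangle.obj (CochainComplex.mappingCone.triangle ψ)
  have hT' : T' ∈ distTriang (DCoh.D X) := DerivedCategory.mappingCone_triangle_distinguished ψ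
  have hcomm : T.mor₁ ≫ eJ.hom = eI.hom ≫ T'.mor₁ := by
    show T.mor₁ ≫ eJ.hom = eI.hom ≫ DerivedCategory.Q.map ψ
    rw [hψ, Iso.hom_inv_id_assoc]
  let e : T ≅ T' := isoTriangleOfIso₁₂ T T' hT hT' eI eJ hcomm
  have he₁ : e.hom.hom₁ = eI.hom := isoTriangleOfIso₁₂_hom_hom₁ T T' hT hT' eI eJ hcomm
  have he₂ : e.hom.hom₂ = eJ.hom := isoTriangleOfIso₁₂_hom_hom₂ T T' hT hT' eI eJ hcomm
  let T₀ := DerivedCategory.Q.mapTriangle.obj
    (CochainComplex.mappingCone.triangle ((FC F).map ψ))
  have hT₀ : T₀ ∈ distTriang (DerivedCategory B) :=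
    DerivedCategory.mappingCone_triangle_distinguished _
  let eA : (RF F).obj T.obj₁ ≅ T₀.obj₁ :=
    (RF F).mapIso eI ≪≫ rfObjIso F I
  let eB : (RF F).obj T.obj₂ ≅ T₀.obj₂ :=
    (RF F).mapIso eJ ≪≫ rfObjIso F J
  let eC : (RF F).obj T.obj₃ ≅ T₀.obj₃ :=
    (RF F).mapIso (Triangle.π₃.mapIso e) ≪≫ rfObjIso F (CochainComplex.mappingCone ψ) ≪≫
      DerivedCategory.Q.mapIso
        (CochainComplex.mappingCone.mapHomologicalComplexIso ψ F)
  refine exists_mor₃_of_isos T₀ hT₀ _ _ eA eB eC ?_ ?_
  · show (RF F).map T.mor₁ ≫ (RF F).map eJ.hom ≫ (rfObjIso F J).hom =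
      ((RF F).map eI.hom ≫ (rfObjIso F I).hom) ≫
        DerivedCategory.Q.map ((FC F).map ψ)
    rw [Category.assoc, ← rfObjIso_hom_naturality, ← Functor.map_comp_assoc,
      ← Functor.map_comp_assoc, hcomm]
    rfl
  · have h2 : T.mor₂ ≫ e.hom.hom₃ = eJ.hom ≫
        DerivedCategory.Q.map (CochainComplex.mappingCone.inr ψ) := by
      have := e.hom.comm₂
      rw [he₂] at this
      exact this
    show (RF F).map T.mor₂ ≫ (RF F).map e.hom.hom₃ ≫
        (rfObjIso F (CochainComplex.mappingCone ψ)).hom ≫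
        DerivedCategory.Q.map
          (CochainComplex.mappingCone.mapHomologicalComplexIso ψ F).hom =
      ((RF F).map eJ.hom ≫ (rfObjIso F J).hom) ≫
        DerivedCategory.Q.map (CochainComplex.mappingCone.inr ((FC F).map ψ))
    rw [← CochainComplex.mappingCone.map_inr ψ F,
      Functor.map_comp, Category.assoc, ← rfObjIso_hom_naturality_assoc,
      ← Functor.map_comp_assoc, ← Functor.map_comp_assoc, h2]
    rfl

end Groth.Agent.Lib.Helper5.TotalRD
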