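import Mathlib
import Groth.Prelude.Def_DCoh2
import Groth.Agent.Lib.Helper5.MV.TotalRD
import Groth.Agent.Lib.Helper3.RDBridge

/-!
# The total right derived functor on shifted single modules (helper5)
-/

set_option autoImplicit false
universe w v u
open CategoryTheory CategoryTheory.Limits Opposite TopologicalSpace AlgebraicGeometry
open Pretriangulated ZeroObject

attribute [local instance] HasDerivedCategory.standard

namespace Groth.Agent.Lib.Helper5.TotalRD

open Groth.Agent.Helper3.KInjDer Groth.Agent.Lib.Helper5.MV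

variable {X : Scheme.{u}} {B : Type (u + 1)} [Category.{u} B] [Abelian B]
  (F : X.Modules ⥤ B) [F.Additive]
  [(FKh F).HasRightDerivedFunctor (HomotopyCategory.quasiIso X.Modules (ComplexShape.up ℤ))]

/-- `RF` maps zero objects to zero objects -/
theorem isZero_rf_of_isZero (E : DCoh.D X) (hE : IsZero E) : IsZero ((RF F).obj E) := by
  obtain ⟨c, hc⟩ := exists_distinguished_rf F _ (contractible_distinguished E)
  have h3 : IsZero ((RF F).obj (0 : DCoh.D X)) := by
    refine (Triangle.isZero₃_iff_isIso₁ _ hc).2 ?_
    show IsIso ((RF F).map (𝟙 E))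
    rw [CategoryTheory.Functor.map_id]
    infer_instance
  exact IsZero.of_iso h3 ((RF F).mapIso hE.isoZero)

section Single

variable {G : X.Modules} (R : InjectiveResolution G) (b : ℤ)

/-- `G[-b] ≅ Q(I[-b])` for an injective resolution `I` of `G` -/
noncomputable def singleIso :
    (DerivedCategory.singleFunctor X.Modules b).obj G ≅
      DerivedCategory.Q.obj (R.cochainComplex⟦-b⟧) :=
  (((DerivedCategory.singleFunctors X.Modules).shiftIso (-b) b 0 (by omega)).app G).symm ≪≫
    (shiftFunctor (DCoh.D X) (-b)).mapIso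
      ((DerivedCategory.singleFunctorIsoCompQ X.Modules 0).app G ≪≫
        asIso (DerivedCategory.Q.map R.ι')) ≪≫
    ((DerivedCategory.Q.commShiftIso (-b)).app R.cochainComplex).symm

/-- `RF(G[-b]) ≅ Q(F I)[-b]` -/
noncomputable def rfSingleIso :
    (RF F).obj ((DerivedCategory.singleFunctor X.Modules b).obj G) ≅
      (DerivedCategory.Q.obj ((FC F).obj R.cochainComplex))⟦-b⟧ :=
  (RF F).mapIso (singleIso R b) ≪≫ rfObjIso F (R.cochainComplex⟦-b⟧) ≪≫
    DerivedCategory.Q.mapIso (((FC F).commShiftIso (-b)).app R.cochainComplex) ≪≫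
    (DerivedCategory.Q.commShiftIso (-b)).app ((FC F).obj R.cochainComplex)

/-- `H^i(RF(G[-b])) ≅ H^{i-b}(F I)` -/
noncomputable def homologyRfSingleIso (i j : ℤ) (h : -b + i = j) :
    (DerivedCategory.homologyFunctor B i).obj
      ((RF F).obj ((DerivedCategory.singleFunctor X.Modules b).obj G)) ≅
      ((FC F).obj R.cochainComplex).homology j :=
  (DerivedCategory.homologyFunctor B i).mapIso (rfSingleIso F R b) ≪≫
    ((DerivedCategory.homologyFunctor B 0).shiftIso (-b) i j h).app _ ≪≫
    (DerivedCategory.homologyFunctorFactors B j).app ((FC F).obj R.cochainComplex)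

end Single

end Groth.Agent.Lib.Helper5.TotalRD
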