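import Mathlib
import Groth.Prelude.Def_DCoh2
import Groth.Agent.Lib.Helper5.MV.TotalRDSingle
import Groth.Agent.Lib.Helper5.Perf.HomVanishTrunc
import Groth.Agent.Lib.Helper5.QC.RpushPC

/-!
# Cohomological dimension of total right derived functors on bounded objects of `D_QCoh` (helper5)
-/

set_option autoImplicit false
universe w v u
open CategoryTheory CategoryTheory.Limits Opposite TopologicalSpace AlgebraicGeometry
open Pretriangulated ZeroObject

attribute [local instance] HasDerivedCategory.standard

namespace Groth.Agent.Lib.Helper5.TotalRD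

open Groth.Agent.Helper3.KInjDer Groth.Agent.Lib.Helper5.MV Groth.Agent.Lib.Helper5.RpushSupp
  Groth.Agent.Lib.Helper5.HomVanish Groth.Agent.Lib.Helper5.QC

variable {X : Scheme.{u}} {B : Type (u + 1)} [Category.{u} B] [Abelian B]
  (F : X.Modules ⥤ B) [F.Additive]
  [(FKh F).HasRightDerivedFunctor (HomotopyCategory.quasiIso X.Modules (ComplexShape.up ℤ))]

section Single

variable {G : X.Modules} (R : InjectiveResolution G)

lemma isZero_homology_neg (j : ℤ) (hj : j < 0) :
    IsZero (((FC F).obj R.cochainComplex).homology j) := by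
  rw [← HomologicalComplex.exactAt_iff_isZero_homology]
  apply ShortComplex.exact_of_isZero_X₂
  exact F.map_isZero (CochainComplex.isZero_of_isStrictlyGE R.cochainComplex 0 j hj)

/-- `H^n(F I) ≅ R^nF(G)` -/
noncomputable def homologyIsoRightDerived [HasInjectiveResolutions X.Modules] (n : ℕ) :
    ((FC F).obj R.cochainComplex).homology (n : ℤ) ≅ (F.rightDerived n).obj G :=
  (R.isoRightDerivedObj F n ≪≫ Groth.Agent.Helper3.RDBridge.θ F R n).symm

end Single

variable [HasInjectiveResolutions X.Modules]

/-- vanishing of `H^i(RF(G[-b]))` outside `[b, b + N)` -/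
theorem isZero_homology_rf_single (N : ℕ) (G : X.Modules)
    (hG : ∀ p : ℕ, N ≤ p → IsZero ((F.rightDerived p).obj G)) (b i : ℤ)
    (hi : i < b ∨ b + N ≤ i) :
    IsZero ((DerivedCategory.homologyFunctor B i).obj
      ((RF F).obj ((DerivedCategory.singleFunctor X.Modules b).obj G))) := by
  let R : InjectiveResolution G := injectiveResolution G
  refine IsZero.of_iso ?_ (homologyRfSingleIso F R b i (i - b) (by omega))
  by_cases hj : i - b < 0
  · exact isZero_homology_neg F R _ hj
  · obtain ⟨n, hn⟩ : ∃ n : ℕ, i - b = (n : ℤ) := ⟨(i - b).toNat, by omega⟩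
    rw [hn]
    exact IsZero.of_iso (hG n (by omega)) (homologyIsoRightDerived F R n)

local notation "tS" => (DerivedCategory.TStructure.t :
  CategoryTheory.Triangulated.TStructure (DCoh.D X))

open DerivedCategory.HomologySequence in
/-- **cohomological dimension on bounded objects of `D_QCoh`** -/
theorem isZero_homology_rf (N : ℕ)
    (hF : ∀ G : X.Modules, Coh.IsQCoh G → ∀ p : ℕ, N ≤ p → IsZero ((F.rightDerived p).obj G)) :
    ∀ (n : ℕ) (a b : ℤ), b - a < n → ∀ (E : DCoh.D X), DCoh.IsQCohD E →
      (∀ i : ℤ, i < a ∨ b < i → IsZero (DCoh.HD E i)) → ∀ i : ℤ, (i < a ∨ b + N - 1 < i) →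
      IsZero ((DerivedCategory.homologyFunctor B i).obj ((RF F).obj E)) := by
  intro n
  induction n with
  | zero =>
    intro a b hab E hE hv i hi
    have hz : IsZero E := isZero_of_forall_isZero_HD E (fun j => hv j (by omega))
    exact (DerivedCategory.homologyFunctor B i).map_isZero (isZero_rf_of_isZero F E hz)
  | succ n ih =>
    intro a b hab E hE hv i hi
    by_cases hba : b < a
    · have hz : IsZero E := isZero_of_forall_isZero_HD E (fun j => hv j (by omega))
      exact (DerivedCategory.homologyFunctor B i).map_isZero (isZero_rf_of_isZero F E hz)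
    · have hT := (tS).triangleLTGE_distinguished b E
      let L₁ := ((tS).truncLT b).obj E
      let L₃ := ((tS).truncGE b).obj E
      haveI i1 : L₁.IsLE (b - 1) := inferInstanceAs ((((tS).truncLT b).obj E).IsLE (b - 1))
      haveI i3 : L₃.IsGE b := inferInstanceAs ((((tS).truncGE b).obj E).IsGE b)
      have hq1 : DCoh.IsQCohD L₁ := isQCohD_obj₁_of_truncation _ hT b hE
      have hq3 : DCoh.IsQCohD L₃ := isQCohD_of_truncation _ hT b hE
      -- cohomology of `L₁` vanishes below `a`
      have hv1 : ∀ j : ℤ, j < a ∨ b - 1 < j → IsZero (DCoh.HD L₁ j) := by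
        intro j hj
        by_cases hjb : b - 1 < j
        · exact DerivedCategory.isZero_of_isLE L₁ (b - 1) j hjb
        · have hja : j < a := by omega
          have h3 : IsZero (DCoh.HD L₃ (j - 1)) :=
            DerivedCategory.isZero_of_isGE L₃ b (j - 1) (by omega)
          exact (exact₁ _ hT (j - 1) j (by omega)).isZero_of_both_isZero h3 (hv j (Or.inl hja))
      -- `L₃` is concentrated in degree `b`
      haveI i3' : L₃.IsLE b := by
        rw [DerivedCategory.isLE_iff]
        intro j hj
        have h1 : IsZero (DCoh.HD L₁ (j + 1)) :=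
          DerivedCategory.isZero_of_isLE L₁ (b - 1) (j + 1) (by omega)
        exact (exact₃ _ hT j (j + 1) rfl).isZero_of_both_isZero (hv j (Or.inr hj)) h1
      obtain ⟨G, ⟨eG⟩⟩ := DerivedCategory.exists_iso_singleFunctor_obj_of_isGE_of_isLE L₃ b
      have hG : Coh.IsQCoh G := by
        have e : DCoh.HD L₃ b ≅ G :=
          (DerivedCategory.homologyFunctor X.Modules b).mapIso eG ≪≫
            (DerivedCategory.singleFunctorCompHomologyFunctorIso X.Modules b).app G
        haveI : (DCoh.HD L₃ b).IsQuasicoherent := hq3 b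
        exact Groth.Agent.Helper1.QcAbel.isQuasicoherent_of_iso e
      obtain ⟨c, hc⟩ := exists_distinguished_rf F _ hT
      have h1 : IsZero ((DerivedCategory.homologyFunctor B i).obj ((RF F).obj L₁)) :=
        ih a (b - 1) (by omega) L₁ hq1 hv1 i (by omega)
      have h3 : IsZero ((DerivedCategory.homologyFunctor B i).obj ((RF F).obj L₃)) := by
        refine IsZero.of_iso (isZero_homology_rf_single F N G (hF G hG) b i (by omega))
          ((DerivedCategory.homologyFunctor B i).mapIso ((RF F).mapIso eG))
      exact (exact₂ _ hc i).isZero_of_both_isZero h1 h3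

end Groth.Agent.Lib.Helper5.TotalRD
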