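import Mathlib
import Groth.Prelude.Def_DCoh3
import Groth.Agent.Lib.Helper5.MV.MVTri

/-!
# The Mayer–Vietoris distinguished triangle for `RΓ` (helper5)
-/

set_option autoImplicit false
universe u
open CategoryTheory CategoryTheory.Limits Opposite TopologicalSpace AlgebraicGeometry
open Pretriangulated

attribute [local instance] HasDerivedCategory.standard

namespace Groth.Agent.Lib.Helper5.MV

open Groth.Agent.Lib.Helper5.LpullLib Groth.Agent.Helper3.KInjDer Groth.Agent.Lib.Helper5.RpushRes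

variable {X : Scheme.{u}}

section

variable {T U V W : X.Opens} (D : MVData T U V W) (I : CochainComplex X.Modules ℤ)
  (hI : ∀ n, Injective (I.X n))

include hI in
/-- the Mayer–Vietoris short exact sequence remains exact after applying an additive functor -/
theorem mvCx_map_shortExact' {B : Type*} [Category B] [Abelian B] (F : X.Modules ⥤ B)
    [F.Additive] :
    ((mvCx D I).map (F.mapHomologicalComplex (ComplexShape.up ℤ))).ShortExact := by
  apply HomologicalComplex.shortExact_of_degreewise_shortExact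
  intro n
  haveI := hI n
  haveI : Injective (mvSC D (I.X n)).X₁ := injective_GU T (I.X n)
  have hs : ((mvSC D (I.X n)).map F).ShortExact :=
    ((mvSC_shortExact D (I.X n)).splittingOfInjective.map F).shortExact
  let e : ((mvCx D I).map (F.mapHomologicalComplex (ComplexShape.up ℤ))).map
      (HomologicalComplex.eval B (ComplexShape.up ℤ) n) ≅ (mvSC D (I.X n)).map F :=
    F.mapShortComplex.mapIso (mvCxEvalIso D I n)
  exact ShortComplex.shortExact_of_iso e.symm hs

end

/-- global sections on complexes -/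
noncomputable abbrev gammaC (Z : Scheme.{u}) :
    CochainComplex Z.Modules ℤ ⥤ CochainComplex AddCommGrpCat.{u} ℤ :=
  (DCoh.gammaAb Z).mapHomologicalComplex (ComplexShape.up ℤ)

/-- `RΓ` is computed by `Γ` on K-injective complexes -/
noncomputable def rgammaObjIso (Z : Scheme.{u}) [DCoh.HasRΓ Z]
    (J : CochainComplex Z.Modules ℤ) [J.IsKInjective] :
    (DCoh.RΓ Z).obj (DerivedCategory.Q.obj J) ≅ DerivedCategory.Q.obj ((gammaC Z).obj J) :=
  haveI : IsIso (((DCoh.gammaKh Z).totalRightDerivedUnit DerivedCategory.Qh (WK Z)).app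
      ((HomotopyCategory.quotient Z.Modules (ComplexShape.up ℤ)).obj J)) :=
    isIso_unit_app (DCoh.gammaKh Z)
      ((DCoh.gammaKh Z).totalRightDerivedUnit DerivedCategory.Qh (WK Z)) J
  (asIso (((DCoh.gammaKh Z).totalRightDerivedUnit DerivedCategory.Qh (WK Z)).app
    ((HomotopyCategory.quotient Z.Modules (ComplexShape.up ℤ)).obj J))).symm

lemma ι_image_top_eq_cap (O : X.Opens) : O.ι ''ᵁ (⊤ : (O : Scheme.{u}).Opens) = cap O ⊤ := rfl

/-- `Γ(X, j_* j^* M) = Γ(O, M|_O)` -/
noncomputable def gammaIso (O : X.Opens) :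
    GU O ⋙ DCoh.gammaAb X ≅ Scheme.Modules.restrictFunctor O.ι ⋙ DCoh.gammaAb (O : Scheme.{u}) :=
  NatIso.ofComponents (fun M => Iso.refl _) (fun φ => by
    simp only [Iso.refl_hom, Category.comp_id, Category.id_comp]
    rfl)

/-- the vertex `Q(Γ(X, j_{O*} j_O^* I)) ≅ RΓ(O, E|_O)` -/
noncomputable def vertexIsoGamma (O : X.Opens) [DCoh.HasRΓ (O : Scheme.{u})]
    (I : CochainComplex X.Modules ℤ) [I.IsKInjective] (E : DCoh.D X)
    (eE : E ≅ DerivedCategory.Q.obj I) :
    DerivedCategory.Q.obj ((gammaC X).obj ((GC O).obj I)) ≅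
      (DCoh.RΓ (O : Scheme.{u})).obj ((DCoh.restrictD O.ι).obj E) := by
  haveI := isKInjective_restrict O I
  let J : CochainComplex (O : Scheme.{u}).Modules ℤ :=
    ((Scheme.Modules.restrictFunctor O.ι).mapHomologicalComplex (ComplexShape.up ℤ)).obj I
  let e1 : (gammaC X).obj ((GC O).obj I) ≅ (gammaC (O : Scheme.{u})).obj J :=
    (NatIso.mapHomologicalComplex (gammaIso O) (ComplexShape.up ℤ)).app I
  exact DerivedCategory.Q.mapIso e1 ≪≫ (rgammaObjIso (O : Scheme.{u}) J).symm ≪≫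
    (DCoh.RΓ (O : Scheme.{u})).mapIso
      (((Scheme.Modules.restrictFunctor O.ι).mapDerivedCategoryFactors.app I).symm ≪≫
        (DCoh.restrictD O.ι).mapIso eE.symm)

/-- **Mayer–Vietoris for `RΓ`** when `X = U ∪ V` -/
theorem exists_mv_triangle_gamma {U V W : X.Opens} (D : MVData ⊤ U V W)
    [DCoh.HasRΓ X] [DCoh.HasRΓ (U : Scheme.{u})] [DCoh.HasRΓ (V : Scheme.{u})]
    [DCoh.HasRΓ (W : Scheme.{u})] (E : DCoh.D X) :
    ∃ (a : (DCoh.RΓ X).obj E ⟶
        (DCoh.RΓ (U : Scheme.{u})).obj ((DCoh.restrictD U.ι).obj E) ⊞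
          (DCoh.RΓ (V : Scheme.{u})).obj ((DCoh.restrictD V.ι).obj E))
      (b : (DCoh.RΓ (U : Scheme.{u})).obj ((DCoh.restrictD U.ι).obj E) ⊞
          (DCoh.RΓ (V : Scheme.{u})).obj ((DCoh.restrictD V.ι).obj E) ⟶
        (DCoh.RΓ (W : Scheme.{u})).obj ((DCoh.restrictD W.ι).obj E))
      (c : (DCoh.RΓ (W : Scheme.{u})).obj ((DCoh.restrictD W.ι).obj E) ⟶
        ((DCoh.RΓ X).obj E)⟦(1 : ℤ)⟧),
      Triangle.mk a b c ∈ distTriang (DerivedCategory AddCommGrpCat.{u}) := by
  obtain ⟨I, hI, hinj, ⟨eE⟩⟩ := exists_kInjective_injective_repr E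
  haveI := hI
  have hS := mvCx_map_shortExact' D I hinj (DCoh.gammaAb X)
  have hT := DerivedCategory.triangleOfSES_distinguished hS
  haveI : (gammaC X ⋙ DerivedCategory.Q).Additive := inferInstance
  haveI : PreservesBinaryBiproducts (gammaC X ⋙ DerivedCategory.Q) :=
    preservesBinaryBiproducts_of_preservesBiproducts _
  let eA : DerivedCategory.Q.obj ((gammaC X).obj ((GC (⊤ : X.Opens)).obj I)) ≅
      (DCoh.RΓ X).obj E :=
    DerivedCategory.Q.mapIso ((gammaC X).mapIso (ηTopIso I).symm) ≪≫ (rgammaObjIso X I).symm ≪≫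
      (DCoh.RΓ X).mapIso eE.symm
  let eB : (DerivedCategory.triangleOfSES hS).obj₂ ≅
      (DCoh.RΓ (U : Scheme.{u})).obj ((DCoh.restrictD U.ι).obj E) ⊞
        (DCoh.RΓ (V : Scheme.{u})).obj ((DCoh.restrictD V.ι).obj E) :=
    (gammaC X ⋙ DerivedCategory.Q).mapBiprod ((GC U).obj I) ((GC V).obj I) ≪≫
      biprod.mapIso (vertexIsoGamma U I E eE) (vertexIsoGamma V I E eE)
  exact exists_distinguished_of_isos _ hT eA eB (vertexIsoGamma W I E eE)

end Groth.Agent.Lib.Helper5.MV
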