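import Mathlib

/-!
# Generalities for the Mayer–Vietoris sequence of extension by zero (helper5)

* `homEquiv_conj`: compatibility of conjugate natural transformations with `homEquiv`;
* `shortExact_of_injective_test`: a short complex in an abelian category with enough injectives
  is short exact as soon as `Hom(-, I)` turns it into a short exact sequence for all injective `I`.
-/

set_option autoImplicit false
universe v₁ v₂ u₁ u₂
open CategoryTheory CategoryTheory.Limits

namespace Groth.Agent.Lib.Helper5.MVShriek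

section Conj

variable {C : Type u₁} {D : Type u₂} [Category.{v₁} C] [Category.{v₂} D]
  {L₁ L₂ : C ⥤ D} {R₁ R₂ : D ⥤ C} (adj₁ : L₁ ⊣ R₁) (adj₂ : L₂ ⊣ R₂)

theorem homEquiv_conj (β : R₁ ⟶ R₂) {M : C} {N : D} (g : L₁.obj M ⟶ N) :
    adj₂.homEquiv M N (((conjugateEquiv adj₁ adj₂).symm β).app M ≫ g) =
      adj₁.homEquiv M N g ≫ β.app N := by
  rw [Adjunction.homEquiv_unit, Adjunction.homEquiv_unit, Functor.map_comp, ← Category.assoc,
    ← unit_conjugateEquiv_symm adj₁ adj₂ β M, Category.assoc, Category.assoc, β.naturality]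

end Conj

section Test

variable {C : Type u₁} [Category.{v₁} C] [Abelian C] [EnoughInjectives C]

theorem shortExact_of_injective_test (S : ShortComplex C)
    (h1 : ∀ (I : C) [Injective I] (h : S.X₃ ⟶ I), S.g ≫ h = 0 → h = 0)
    (h2 : ∀ (I : C) [Injective I] (k : S.X₂ ⟶ I), S.f ≫ k = 0 → ∃ h : S.X₃ ⟶ I, S.g ≫ h = k)
    (h3 : ∀ (I : C) [Injective I] (k : S.X₁ ⟶ I), ∃ l : S.X₂ ⟶ I, S.f ≫ l = k) :
    S.ShortExact := by
  haveI : Mono S.f := by
    obtain ⟨l, hl⟩ := h3 (Injective.under S.X₁) (Injective.ι S.X₁)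
    exact mono_of_mono_fac hl
  haveI : Epi S.g := by
    apply Preadditive.epi_of_cokernel_zero (f := S.g)
    have h0 := h1 (Injective.under (cokernel S.g)) (cokernel.π S.g ≫ Injective.ι _)
      (by rw [← Category.assoc, cokernel.condition, zero_comp])
    exact (cancel_mono (Injective.ι (cokernel S.g))).1 (h0.trans zero_comp.symm)
  have hex : S.Exact := by
    rw [S.exact_iff_mono_cokernel_desc]
    obtain ⟨h, hh⟩ := h2 (Injective.under (cokernel S.f)) (cokernel.π S.f ≫ Injective.ι _)
      (by rw [← Category.assoc, cokernel.condition, zero_comp])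
    have : cokernel.desc S.f S.g S.zero ≫ h = Injective.ι (cokernel S.f) := by
      rw [← cancel_epi (cokernel.π S.f), ← Category.assoc, cokernel.π_desc, hh]
    exact mono_of_mono_fac this
  exact ShortComplex.ShortExact.mk hex

end Test

end Groth.Agent.Lib.Helper5.MVShriek
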