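import Mathlib
import Groth.Prelude.Def_DCoh3
import Groth.Prelude.Def_CxOX
import Groth.Agent.Lib.Helper5.MV.MVShriekGen
import Groth.Agent.Lib.Helper5.MV.MVCx
import Groth.Agent.Lib.Helper5.MV.MVTri

/-!
# The Mayer–Vietoris short exact sequence for extension by zero (helper5)

`0 → j_{W!}(M|_W) → j_{U!}(M|_U) ⊕ j_{V!}(M|_V) → j_{T!}(M|_T) → 0` for `T = U ∪ V`, `W = U ∩ V`,
obtained from the sequence for `j_*` of injective modules by conjugation.
-/

set_option autoImplicit false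
universe u
open CategoryTheory CategoryTheory.Limits AlgebraicGeometry Opposite TopologicalSpace

namespace Groth.Agent.Lib.Helper5.MVShriek

open Groth.Agent.Lib.Helper5.MV

variable {X : Scheme.{u}}

/-- `j_! j^*` for the inclusion of an open -/
noncomputable abbrev LU (U : X.Opens) : X.Modules ⥤ X.Modules :=
  Scheme.Modules.restrictFunctor U.ι ⋙ CxOX.extZero U.ι

/-- `j_! j^* ⊣ j_* j^*` -/
noncomputable def adjL (U : X.Opens) : LU U ⊣ GU U :=
  (Scheme.Modules.restrictAdjunction U.ι).comp (CxOX.extZeroAdj U.ι)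

/-- `j_{W!} j_W^* → j_{U!} j_U^*` for `W ≤ U` -/
noncomputable def τ {W U : X.Opens} (h : W ≤ U) : LU W ⟶ LU U :=
  (conjugateEquiv (adjL U) (adjL W)).symm (σ h)

lemma homEquiv_τ {W U : X.Opens} (h : W ≤ U) {M N : X.Modules} (g : (LU U).obj M ⟶ N) :
    (adjL W).homEquiv M N ((τ h).app M ≫ g) = (adjL U).homEquiv M N g ≫ (σ h).app N :=
  homEquiv_conj _ _ _ g

lemma τ_trans {W U T : X.Opens} (h : W ≤ U) (h' : U ≤ T) : τ h ≫ τ h' = τ (h.trans h') := by
  unfold τ
  rw [conjugateEquiv_symm_comp, σ_trans]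

lemma homEquiv_sub' (U : X.Opens) {M N : X.Modules} (a b : (LU U).obj M ⟶ N) :
    (adjL U).homEquiv M N (a - b) = (adjL U).homEquiv M N a - (adjL U).homEquiv M N b := by
  simp only [Adjunction.homEquiv_unit, Functor.map_sub, Preadditive.comp_sub]

lemma homEquiv_zero' (U : X.Opens) {M N : X.Modules} :
    (adjL U).homEquiv M N 0 = 0 := by
  simp only [Adjunction.homEquiv_unit, Functor.map_zero, comp_zero]

variable {T U V W : X.Opens} (D : MVData T U V W)

/-- the Mayer–Vietoris short complex for extension by zero -/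
noncomputable def shSC (M : X.Modules) : ShortComplex X.Modules where
  X₁ := (LU W).obj M
  X₂ := (LU U).obj M ⊞ (LU V).obj M
  X₃ := (LU T).obj M
  f := biprod.lift ((τ D.hWU).app M) (-(τ D.hWV).app M)
  g := biprod.desc ((τ D.hUT).app M) ((τ D.hVT).app M)
  zero := by
    rw [biprod.lift_desc, Preadditive.neg_comp, ← NatTrans.comp_app, ← NatTrans.comp_app,
      τ_trans, τ_trans]
    exact add_neg_cancel _

section MVfacts

variable (I : X.Modules) [Injective I]

lemma mv_mono {M : X.Modules} (c : M ⟶ (GU T).obj I)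
    (hU : c ≫ (σ D.hUT).app I = 0) (hV : c ≫ (σ D.hVT).app I = 0) : c = 0 := by
  have hS := mvSC_shortExact D I
  haveI : Mono (biprod.lift ((σ D.hUT).app I) ((σ D.hVT).app I)) := hS.mono_f
  have : c ≫ biprod.lift ((σ D.hUT).app I) ((σ D.hVT).app I) =
      0 ≫ biprod.lift ((σ D.hUT).app I) ((σ D.hVT).app I) := by
    rw [zero_comp]
    apply biprod.hom_ext
    · rw [Category.assoc, zero_comp, biprod.lift_fst, hU]
    · rw [Category.assoc, zero_comp, biprod.lift_snd, hV]
  exact (cancel_mono _).1 this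

lemma mv_lift {M : X.Modules} (a : M ⟶ (GU U).obj I) (b : M ⟶ (GU V).obj I)
    (h : a ≫ (σ D.hWU).app I - b ≫ (σ D.hWV).app I = 0) :
    ∃ c : M ⟶ (GU T).obj I, c ≫ (σ D.hUT).app I = a ∧ c ≫ (σ D.hVT).app I = b := by
  have hS := mvSC_shortExact D I
  haveI := hS.mono_f
  let k' : M ⟶ (mvSC D I).X₂ := biprod.lift a b
  have hk' : k' ≫ (mvSC D I).g = 0 := by
    have : k' ≫ (mvSC D I).g = a ≫ (σ D.hWU).app I + b ≫ (-(σ D.hWV).app I) :=
      biprod.lift_desc
    rw [this, Preadditive.comp_neg, ← sub_eq_add_neg]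
    exact h
  let c : M ⟶ (GU T).obj I := hS.exact.lift k' hk'
  have h1 : c ≫ biprod.lift ((σ D.hUT).app I) ((σ D.hVT).app I) = biprod.lift a b :=
    hS.exact.lift_f k' hk'
  refine ⟨c, ?_, ?_⟩
  · have h2 := congrArg (fun φ => φ ≫ biprod.fst) h1
    simp only [Category.assoc, biprod.lift_fst] at h2
    exact h2
  · have h2 := congrArg (fun φ => φ ≫ biprod.snd) h1
    simp only [Category.assoc, biprod.lift_snd] at h2
    exact h2

lemma mv_section : ∃ (sU : (GU W).obj I ⟶ (GU U).obj I) (sV : (GU W).obj I ⟶ (GU V).obj I),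
    sU ≫ (σ D.hWU).app I - sV ≫ (σ D.hWV).app I = 𝟙 _ := by
  have hS := mvSC_shortExact D I
  haveI : Injective (mvSC D I).X₁ := injective_GU T I
  let sp := hS.splittingOfInjective
  let s : (GU W).obj I ⟶ (GU U).obj I ⊞ (GU V).obj I := sp.s
  have h1 : s ≫ biprod.desc ((σ D.hWU).app I) (-(σ D.hWV).app I) = 𝟙 _ := sp.s_g
  refine ⟨s ≫ biprod.fst, s ≫ biprod.snd, ?_⟩
  have h2 : biprod.lift (s ≫ biprod.fst) (s ≫ biprod.snd) = s := by
    apply biprod.hom_ext
    · rw [biprod.lift_fst]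
    · rw [biprod.lift_snd]
  have h3 : biprod.lift (s ≫ biprod.fst) (s ≫ biprod.snd) ≫
      biprod.desc ((σ D.hWU).app I) (-(σ D.hWV).app I) = 𝟙 _ := by
    rw [h2]; exact h1
  rw [biprod.lift_desc, Preadditive.comp_neg, ← sub_eq_add_neg] at h3
  exact h3

end MVfacts

lemma test1 (M I : X.Modules) [Injective I] (h : (LU T).obj M ⟶ I)
    (hU : (τ D.hUT).app M ≫ h = 0) (hV : (τ D.hVT).app M ≫ h = 0) : h = 0 := by
  apply ((adjL T).homEquiv M I).injective
  rw [homEquiv_zero']
  apply mv_mono D I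
  · rw [← homEquiv_τ, hU, homEquiv_zero']
  · rw [← homEquiv_τ, hV, homEquiv_zero']

lemma test2 (M I : X.Modules) [Injective I] (kU : (LU U).obj M ⟶ I) (kV : (LU V).obj M ⟶ I)
    (hk : (τ D.hWU).app M ≫ kU - (τ D.hWV).app M ≫ kV = 0) :
    ∃ h : (LU T).obj M ⟶ I, (τ D.hUT).app M ≫ h = kU ∧ (τ D.hVT).app M ≫ h = kV := by
  obtain ⟨c, hc1, hc2⟩ := mv_lift D I ((adjL U).homEquiv M I kU) ((adjL V).homEquiv M I kV) (by
    rw [← homEquiv_τ, ← homEquiv_τ, ← homEquiv_sub', hk, homEquiv_zero'])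
  refine ⟨((adjL T).homEquiv M I).symm c, ?_, ?_⟩
  · apply ((adjL U).homEquiv M I).injective
    rw [homEquiv_τ, Equiv.apply_symm_apply, hc1]
  · apply ((adjL V).homEquiv M I).injective
    rw [homEquiv_τ, Equiv.apply_symm_apply, hc2]

lemma test3 (M I : X.Modules) [Injective I] (k : (LU W).obj M ⟶ I) :
    ∃ (lU : (LU U).obj M ⟶ I) (lV : (LU V).obj M ⟶ I),
      (τ D.hWU).app M ≫ lU - (τ D.hWV).app M ≫ lV = k := by
  obtain ⟨sU, sV, hs⟩ := mv_section D I
  refine ⟨((adjL U).homEquiv M I).symm ((adjL W).homEquiv M I k ≫ sU),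
    ((adjL V).homEquiv M I).symm ((adjL W).homEquiv M I k ≫ sV), ?_⟩
  apply ((adjL W).homEquiv M I).injective
  rw [homEquiv_sub', homEquiv_τ, homEquiv_τ, Equiv.apply_symm_apply, Equiv.apply_symm_apply,
    Category.assoc, Category.assoc, ← Preadditive.comp_sub, hs, Category.comp_id]

theorem shSC_shortExact (M : X.Modules) : (shSC D M).ShortExact := by
  apply shortExact_of_injective_test
  · intro I _ h hh
    let h' : (LU T).obj M ⟶ I := h
    have hh' : biprod.desc ((τ D.hUT).app M) ((τ D.hVT).app M) ≫ h' = 0 := hh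
    apply test1 D M I h'
    · have := congrArg (fun φ => biprod.inl ≫ φ) hh'
      simp only [biprod.inl_desc_assoc, comp_zero] at this
      exact this
    · have := congrArg (fun φ => biprod.inr ≫ φ) hh'
      simp only [biprod.inr_desc_assoc, comp_zero] at this
      exact this
  · intro I _ k0 hk0
    let k : (LU U).obj M ⊞ (LU V).obj M ⟶ I := k0
    have hk : biprod.lift ((τ D.hWU).app M) (-(τ D.hWV).app M) ≫ k = 0 := hk0
    have hk2 : k = biprod.desc (biprod.inl ≫ k) (biprod.inr ≫ k) := by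
      apply biprod.hom_ext'
      · rw [biprod.inl_desc]
      · rw [biprod.inr_desc]
    obtain ⟨h, h1, h2⟩ := test2 D M I (biprod.inl ≫ k) (biprod.inr ≫ k) (by
      have h3 := hk
      rw [hk2, biprod.lift_desc, Preadditive.neg_comp, ← sub_eq_add_neg] at h3
      exact h3)
    refine ⟨h, ?_⟩
    show biprod.desc ((τ D.hUT).app M) ((τ D.hVT).app M) ≫ h = k
    apply biprod.hom_ext'
    · rw [← Category.assoc, biprod.inl_desc, h1]
    · rw [← Category.assoc, biprod.inr_desc, h2]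
  · intro I _ k0
    let k : (LU W).obj M ⟶ I := k0
    obtain ⟨lU, lV, hl⟩ := test3 D M I k
    refine ⟨biprod.desc lU lV, ?_⟩
    show biprod.lift ((τ D.hWU).app M) (-(τ D.hWV).app M) ≫ biprod.desc lU lV = k
    rw [biprod.lift_desc, Preadditive.neg_comp, ← sub_eq_add_neg, hl]

end Groth.Agent.Lib.Helper5.MVShriek
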