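import Mathlib
import Groth.Prelude.Def_DCoh3
import Groth.Prelude.Def_CxOX
import Groth.Agent.Lib.Helper5.MV.MVShriek

/-!
# The Mayer–Vietoris distinguished triangle for extension by zero (helper5)
-/

set_option autoImplicit false
universe u
open CategoryTheory CategoryTheory.Limits AlgebraicGeometry Opposite TopologicalSpace
open Pretriangulated

attribute [local instance] HasDerivedCategory.standard

namespace Groth.Agent.Lib.Helper5.MVShriek

open Groth.Agent.Lib.Helper5.MV

variable {X : Scheme.{u}}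

/-- `j_! j^*` on complexes -/
noncomputable abbrev LC (U : X.Opens) :
    CochainComplex X.Modules ℤ ⥤ CochainComplex X.Modules ℤ :=
  (LU U).mapHomologicalComplex (ComplexShape.up ℤ)

noncomputable abbrev τC {W U : X.Opens} (h : W ≤ U) : LC W ⟶ LC U :=
  NatTrans.mapHomologicalComplex (τ h) (ComplexShape.up ℤ)

lemma τC_trans {W U T : X.Opens} (h : W ≤ U) (h' : U ≤ T) :
    τC h ≫ τC h' = τC (h.trans h') := by
  show NatTrans.mapHomologicalComplex (τ h) _ ≫ NatTrans.mapHomologicalComplex (τ h') _ =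
    NatTrans.mapHomologicalComplex (τ (h.trans h')) _
  rw [← NatTrans.mapHomologicalComplex_comp, τ_trans]

variable {T U V W : X.Opens} (D : MVData T U V W) (K : CochainComplex X.Modules ℤ)

noncomputable def shCx : ShortComplex (CochainComplex X.Modules ℤ) where
  X₁ := (LC W).obj K
  X₂ := (LC U).obj K ⊞ (LC V).obj K
  X₃ := (LC T).obj K
  f := biprod.lift ((τC D.hWU).app K) (-(τC D.hWV).app K)
  g := biprod.desc ((τC D.hUT).app K) ((τC D.hVT).app K)
  zero := by
    rw [biprod.lift_desc, Preadditive.neg_comp, ← NatTrans.comp_app, ← NatTrans.comp_app,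
      τC_trans, τC_trans]
    exact add_neg_cancel _

noncomputable def shCxEvalIso (n : ℤ) :
    (shCx D K).map (HomologicalComplex.eval X.Modules (ComplexShape.up ℤ) n) ≅
      shSC D (K.X n) :=
  ShortComplex.isoMk (Iso.refl _)
    ((HomologicalComplex.eval X.Modules (ComplexShape.up ℤ) n).mapBiprod _ _) (Iso.refl _)
    (by
      refine (Category.id_comp _).trans ?_
      exact (biprod.map_lift_mapBiprod (HomologicalComplex.eval X.Modules (ComplexShape.up ℤ) n)
        ((LC U).obj K) ((LC V).obj K) ((τC D.hWU).app K) (-(τC D.hWV).app K)).symm)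
    (by
      refine Eq.trans ?_ (Category.comp_id _).symm
      exact biprod.mapBiprod_hom_desc (HomologicalComplex.eval X.Modules (ComplexShape.up ℤ) n)
        ((LC U).obj K) ((LC V).obj K) ((τC D.hUT).app K) ((τC D.hVT).app K))

theorem shCx_shortExact : (shCx D K).ShortExact := by
  apply HomologicalComplex.shortExact_of_degreewise_shortExact
  intro n
  exact ShortComplex.shortExact_of_iso (shCxEvalIso D K n).symm (shSC_shortExact D (K.X n))

/-- the vertex `Q(j_! j^* K) ≅ j_!(E|_O)` -/
noncomputable def vertexIso (O : X.Opens) [PreservesFiniteLimits (CxOX.extZero O.ι)]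
    (E : DCoh.D X) (eE : DerivedCategory.Q.obj K ≅ E) :
    DerivedCategory.Q.obj ((LC O).obj K) ≅
      (CxOX.extZeroD O.ι).obj ((DCoh.restrictD O.ι).obj E) :=
  let J : CochainComplex (O : Scheme.{u}).Modules ℤ :=
    ((Scheme.Modules.restrictFunctor O.ι).mapHomologicalComplex (ComplexShape.up ℤ)).obj K
  let e1 : (LC O).obj K ≅
      ((CxOX.extZero O.ι).mapHomologicalComplex (ComplexShape.up ℤ)).obj J := Iso.refl _
  DerivedCategory.Q.mapIso e1 ≪≫ ((CxOX.extZero O.ι).mapDerivedCategoryFactors.app J).symm ≪≫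
    (CxOX.extZeroD O.ι).mapIso
      (((Scheme.Modules.restrictFunctor O.ι).mapDerivedCategoryFactors.app K).symm ≪≫
        (DCoh.restrictD O.ι).mapIso eE)

instance isIso_unit_top :
    IsIso (Scheme.Modules.restrictAdjunction (⊤ : X.Opens).ι).unit :=
  haveI : ∀ M : X.Modules, IsIso ((Scheme.Modules.restrictAdjunction (⊤ : X.Opens).ι).unit.app M) :=
    fun M => isIso_ηU_top M
  NatIso.isIso_of_isIso_app _

/-- `j_! j^* ≅ 𝟭` for the inclusion of the whole space -/
noncomputable def εTopIso : LU (⊤ : X.Opens) ≅ 𝟭 X.Modules :=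
  haveI : (Scheme.Modules.restrictFunctor (⊤ : X.Opens).ι).Full :=
    (Scheme.Modules.restrictAdjunction (⊤ : X.Opens).ι).fullyFaithfulLOfIsIsoUnit.full
  haveI : (Scheme.Modules.restrictFunctor (⊤ : X.Opens).ι).Faithful :=
    (Scheme.Modules.restrictAdjunction (⊤ : X.Opens).ι).fullyFaithfulLOfIsIsoUnit.faithful
  asIso (CxOX.extZeroAdj (⊤ : X.Opens).ι).counit

noncomputable def topIso : (LC (⊤ : X.Opens)).obj K ≅ K :=
  HomologicalComplex.Hom.isoOfComponents (fun n => εTopIso.app (K.X n))
    (fun i j _ => (εTopIso.hom.naturality (K.d i j)).symm)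

/-- **the Mayer–Vietoris triangle for extension by zero** -/
theorem exists_shriek_triangle (U V : X.Opens) (hUV : U ⊔ V = ⊤)
    [PreservesFiniteLimits (CxOX.extZero U.ι)] [PreservesFiniteLimits (CxOX.extZero V.ι)]
    [PreservesFiniteLimits (CxOX.extZero (U ⊓ V).ι)] (E : DCoh.D X) :
    ∃ (a : (CxOX.extZeroD (U ⊓ V).ι).obj ((DCoh.restrictD (U ⊓ V).ι).obj E) ⟶
        ((CxOX.extZeroD U.ι).obj ((DCoh.restrictD U.ι).obj E) ⊞
          (CxOX.extZeroD V.ι).obj ((DCoh.restrictD V.ι).obj E)))
      (b : ((CxOX.extZeroD U.ι).obj ((DCoh.restrictD U.ι).obj E) ⊞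
          (CxOX.extZeroD V.ι).obj ((DCoh.restrictD V.ι).obj E)) ⟶ E)
      (c : E ⟶ ((CxOX.extZeroD (U ⊓ V).ι).obj ((DCoh.restrictD (U ⊓ V).ι).obj E))⟦(1 : ℤ)⟧),
      Triangle.mk a b c ∈ distTriang (DCoh.D X) := by
  let K : CochainComplex X.Modules ℤ := DerivedCategory.Q.objPreimage E
  let eE : DerivedCategory.Q.obj K ≅ E := DerivedCategory.Q.objObjPreimageIso E
  have D := MVData.of_top U V hUV
  have hS := shCx_shortExact D K
  have hT := DerivedCategory.triangleOfSES_distinguished hS
  haveI : PreservesBinaryBiproducts (DerivedCategory.Q (C := X.Modules)) :=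
    preservesBinaryBiproducts_of_preservesBiproducts _
  let eB : (DerivedCategory.triangleOfSES hS).obj₂ ≅
      (CxOX.extZeroD U.ι).obj ((DCoh.restrictD U.ι).obj E) ⊞
          (CxOX.extZeroD V.ι).obj ((DCoh.restrictD V.ι).obj E) :=
    (DerivedCategory.Q (C := X.Modules)).mapBiprod ((LC U).obj K) ((LC V).obj K) ≪≫
      biprod.mapIso (vertexIso K U E eE) (vertexIso K V E eE)
  exact exists_distinguished_of_isos _ hT (vertexIso K (U ⊓ V) E eE) eB
    (DerivedCategory.Q.mapIso (topIso K) ≪≫ eE)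

end Groth.Agent.Lib.Helper5.MVShriek
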