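import Mathlib
import Groth.Prelude.Def_DCoh3
import Groth.Agent.Lib.Helper5.MV.RpushTri
import Groth.Agent.Lib.Helper5.Perf.RpushOpen
import Groth.Agent.Lib.Helper5.Perf.PerfTri

/-!
# Gluing objects of `D(O_X)` along two opens (helper5)
-/

set_option autoImplicit false
universe u
open CategoryTheory CategoryTheory.Limits Opposite TopologicalSpace AlgebraicGeometry
open Pretriangulated

attribute [local instance] HasDerivedCategory.standard

namespace Groth.Agent.Lib.Helper5.MV

open Groth.Agent.Lib.Helper5.LpullLib Groth.Agent.Helper3.KInjDer Groth.Agent.Lib.Helper5.RpushRes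

section General

variable {C : Type*} [Category C] [Preadditive C] [HasZeroObject C] [HasShift C ℤ]
  [∀ n : ℤ, (shiftFunctor C n).Additive] [Pretriangulated C]

/-- in a distinguished triangle `K ⟶ M ⊕ N ⟶ L` whose second map is an isomorphism on `N`,
the fibre `K` is isomorphic to `M` -/
theorem nonempty_iso_obj₁_of_isIso_inr (T : Triangle C) (hT : T ∈ distTriang C) {M N : C}
    (inl : M ⟶ T.obj₂) (inr : N ⟶ T.obj₂) (fst : T.obj₂ ⟶ M) (snd : T.obj₂ ⟶ N)
    (inl_fst : inl ≫ fst = 𝟙 M) (inr_fst : inr ≫ fst = 0)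
    (total : fst ≫ inl + snd ≫ inr = 𝟙 T.obj₂) (hq : IsIso (inr ≫ T.mor₂)) :
    Nonempty (T.obj₁ ≅ M) := by
  let q := inr ≫ T.mor₂
  let p := inl ≫ T.mor₂
  have hsplit : (inv q ≫ inr) ≫ T.mor₂ = 𝟙 _ := by
    rw [Category.assoc]
    exact IsIso.inv_hom_id q
  haveI : Epi T.mor₂ := (SplitEpi.mk (inv q ≫ inr) hsplit).epi
  have h3 : T.mor₃ = 0 := T.mor₃_eq_zero_of_epi₂ hT inferInstance
  haveI : Mono T.mor₁ := T.mono₁ hT h3
  let ιM : M ⟶ T.obj₂ := inl - p ≫ inv q ≫ inr
  have hι : ιM ≫ T.mor₂ = 0 := by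
    have h1 : (p ≫ inv q ≫ inr) ≫ T.mor₂ = p := by
      rw [Category.assoc, hsplit, Category.comp_id]
    show (inl - p ≫ inv q ≫ inr) ≫ T.mor₂ = 0
    rw [Preadditive.sub_comp, h1]
    exact sub_self p
  obtain ⟨x, hx⟩ := T.coyoneda_exact₂ hT ιM hι
  have h0 : T.mor₁ ≫ fst ≫ p + T.mor₁ ≫ snd ≫ q = 0 := by
    have h1 : T.mor₁ ≫ (fst ≫ inl + snd ≫ inr) ≫ T.mor₂ = 0 := by
      rw [total, Category.id_comp]
      exact comp_distTriang_mor_zero₁₂ _ hT
    rw [Preadditive.add_comp, Preadditive.comp_add, Category.assoc, Category.assoc] at h1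
    exact h1
  have key : T.mor₁ ≫ snd = -(T.mor₁ ≫ fst ≫ p ≫ inv q) := by
    have h2 : (T.mor₁ ≫ snd) ≫ q = -(T.mor₁ ≫ fst ≫ p) := by
      rw [Category.assoc]
      exact eq_neg_of_add_eq_zero_right h0
    have h3 : T.mor₁ ≫ snd = (-(T.mor₁ ≫ fst ≫ p)) ≫ inv q := by
      rw [← h2, Category.assoc, IsIso.hom_inv_id, Category.comp_id]
    rw [h3, Preadditive.neg_comp, Category.assoc, Category.assoc]
  refine ⟨⟨T.mor₁ ≫ fst, x, ?_, ?_⟩⟩
  · rw [← cancel_mono T.mor₁, Category.assoc, Category.assoc, ← hx, Category.id_comp]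
    show T.mor₁ ≫ fst ≫ (inl - p ≫ inv q ≫ inr) = T.mor₁
    rw [Preadditive.comp_sub, Preadditive.comp_sub]
    have h4 : T.mor₁ ≫ fst ≫ p ≫ inv q ≫ inr = -(T.mor₁ ≫ snd ≫ inr) := by
      have := congrArg (fun z => z ≫ inr) key
      simp only [Category.assoc, Preadditive.neg_comp] at this
      rw [this, neg_neg]
    rw [h4, sub_neg_eq_add, ← Preadditive.comp_add, total, Category.comp_id]
  · rw [← Category.assoc, ← hx]
    show (inl - p ≫ inv q ≫ inr) ≫ fst = 𝟙 M
    have h1 : (p ≫ inv q ≫ inr) ≫ fst = 0 := by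
      simp only [Category.assoc, inr_fst, comp_zero]
    rw [Preadditive.sub_comp, inl_fst, h1, sub_zero]

/-- the symmetric statement -/
theorem nonempty_iso_obj₁_of_isIso_inl (T : Triangle C) (hT : T ∈ distTriang C) {M N : C}
    (inl : M ⟶ T.obj₂) (inr : N ⟶ T.obj₂) (fst : T.obj₂ ⟶ M) (snd : T.obj₂ ⟶ N)
    (inr_snd : inr ≫ snd = 𝟙 N) (inl_snd : inl ≫ snd = 0)
    (total : fst ≫ inl + snd ≫ inr = 𝟙 T.obj₂) (hq : IsIso (inl ≫ T.mor₂)) :
    Nonempty (T.obj₁ ≅ N) :=
  nonempty_iso_obj₁_of_isIso_inr T hT inr inl snd fst inr_snd inl_snd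
    (by rw [add_comm]; exact total) hq

end General

section Exact

variable {A B : Type*} [Category A] [Abelian A] [Category B] [Abelian B]

/-- an exact functor preserves short exact sequences of complexes -/
theorem shortExact_map_mapHC (F : A ⥤ B) [F.Additive] [PreservesFiniteLimits F]
    [PreservesFiniteColimits F] (S : ShortComplex (CochainComplex A ℤ)) (hS : S.ShortExact) :
    (S.map (F.mapHomologicalComplex (ComplexShape.up ℤ))).ShortExact := by
  apply HomologicalComplex.shortExact_of_degreewise_shortExact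
  intro n
  exact (hS.map_of_exact (HomologicalComplex.eval A (ComplexShape.up ℤ) n)).map_of_exact F

end Exact

variable {X : Scheme.{u}}

lemma restrict_map_app {O : X.Opens} {M N : X.Modules} (φ : M ⟶ N) (T : (O : Scheme.{u}).Opens) :
    ((Scheme.Modules.restrictFunctor O.ι).map φ).app T = φ.app (O.ι ''ᵁ T) := rfl

/-- the restriction map `j_{U*} j_U^* M ⟶ j_{W*} j_W^* M` is an isomorphism over an open `O`
with `O ∩ U ⊆ W` -/
theorem isIso_restrict_σ {W U' O : X.Opens} (h : W ≤ U') (hO : O ⊓ U' ≤ W) (M : X.Modules) :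
    IsIso ((Scheme.Modules.restrictFunctor O.ι).map ((σ h).app M)) := by
  rw [Scheme.Modules.Hom.isIso_iff_isIso_app]
  intro T
  rw [restrict_map_app, σ_app_app]
  refine isIso_presheaf_map_of_eq M _ ?_
  rw [cap_eq, cap_eq]
  have hT : O.ι ''ᵁ T ≤ O := O.ι_image_le T
  exact le_inf (le_trans (le_inf (inf_le_right.trans hT) inf_le_left) hO) inf_le_right

/-- the unit `M ⟶ j_{U*} j_U^* M` is an isomorphism over `U` -/
theorem isIso_restrict_ηU (U : X.Opens) (M : X.Modules) :
    IsIso ((Scheme.Modules.restrictFunctor U.ι).map ((ηU U).app M)) := by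
  rw [Scheme.Modules.Hom.isIso_iff_isIso_app]
  intro T
  rw [restrict_map_app, ηU_app_app]
  refine isIso_presheaf_map_of_eq M _ ?_
  rw [cap_eq]
  exact le_inf (U.ι_image_le T) le_rfl

/-- the unit on complexes -/
noncomputable abbrev ηC (U : X.Opens) : 𝟭 (CochainComplex X.Modules ℤ) ⟶ GC U :=
  (Functor.mapHomologicalComplexIdIso X.Modules (ComplexShape.up ℤ)).inv ≫
    NatTrans.mapHomologicalComplex (ηU U) (ComplexShape.up ℤ)

theorem isIso_restrictCx_σC {W U' O : X.Opens} (h : W ≤ U') (hO : O ⊓ U' ≤ W)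
    (I : CochainComplex X.Modules ℤ) : IsIso ((DCoh.restrictCx O).map ((σC h).app I)) := by
  haveI : ∀ n, IsIso (((DCoh.restrictCx O).map ((σC h).app I)).f n) := fun n =>
    isIso_restrict_σ h hO (I.X n)
  exact HomologicalComplex.Hom.isIso_of_components _

theorem isIso_restrictCx_ηC (U : X.Opens) (I : CochainComplex X.Modules ℤ) :
    IsIso ((DCoh.restrictCx U).map ((ηC U).app I)) := by
  haveI : ∀ n, IsIso (((DCoh.restrictCx U).map ((ηC U).app I)).f n) := fun n => by
    have h1 : ((ηC U).app I).f n = (ηU U).app (I.X n) := by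
      show 𝟙 _ ≫ (ηU U).app (I.X n) = _
      exact Category.id_comp _
    show IsIso ((Scheme.Modules.restrictFunctor U.ι).map (((ηC U).app I).f n))
    rw [h1]
    exact isIso_restrict_ηU U (I.X n)
  exact HomologicalComplex.Hom.isIso_of_components _

/-- **gluing**: for `A', B' ∈ D(O_X)` isomorphic over `U ∩ V` there is `F ∈ D(O_X)` with
`F|_U ≅ A'|_U` and `F|_V ≅ B'|_V` -/
theorem exists_glue (U V : X.Opens) (A' B' : DCoh.D X)
    (c' : (DCoh.restrictD (U ⊓ V).ι).obj A' ≅ (DCoh.restrictD (U ⊓ V).ι).obj B') :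
    ∃ F : DCoh.D X, Nonempty ((DCoh.restrictD U.ι).obj F ≅ (DCoh.restrictD U.ι).obj A') ∧
      Nonempty ((DCoh.restrictD V.ι).obj F ≅ (DCoh.restrictD V.ι).obj B') := by
  obtain ⟨I, hI, hIinj, ⟨eI⟩⟩ := exists_kInjective_injective_repr A'
  obtain ⟨J, hJ, hJinj, ⟨eJ⟩⟩ := exists_kInjective_injective_repr B'
  haveI := hI
  haveI := hJ
  let W : X.Opens := U ⊓ V
  have hWU : W ≤ U := inf_le_left
  have hWV : W ≤ V := inf_le_right
  haveI := isKInjective_restrict W I
  haveI := isKInjective_restrict W J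
  haveI : DCoh.HasRpush W.ι := hasRightDerivedFunctor (DCoh.pushKh W.ι)
  -- the gluing isomorphism as a chain map over `W`
  let ε : DerivedCategory.Q.obj ((DCoh.restrictCx W).obj I) ≅
      DerivedCategory.Q.obj ((DCoh.restrictCx W).obj J) :=
    ((Scheme.Modules.restrictFunctor W.ι).mapDerivedCategoryFactors.app I).symm ≪≫
      (DCoh.restrictD W.ι).mapIso eI.symm ≪≫ c' ≪≫ (DCoh.restrictD W.ι).mapIso eJ ≪≫
      (Scheme.Modules.restrictFunctor W.ι).mapDerivedCategoryFactors.app J
  obtain ⟨γ, hγ⟩ : ∃ γ : (DCoh.restrictCx W).obj I ⟶ (DCoh.restrictCx W).obj J,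
      DerivedCategory.Q.map γ = ε.hom := by
    obtain ⟨g, hg⟩ := (CochainComplex.IsKInjective.Qh_map_bijective
      ((HomotopyCategory.quotient _ _).obj ((DCoh.restrictCx W).obj I))
      ((DCoh.restrictCx W).obj J)).surjective ε.hom
    obtain ⟨γ, rfl⟩ := (HomotopyCategory.quotient _ _).map_surjective g
    exact ⟨γ, hg⟩
  let Γ : (GC W).obj I ⟶ (GC W).obj J := (pushC W.ι).map γ
  have hΓ : IsIso (DerivedCategory.Q.map Γ) := by
    have h1 := rpushObjIso_hom_naturality W.ι γ
    haveI : IsIso (DerivedCategory.Q.map γ) := by rw [hγ]; infer_instance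
    have h2 : DerivedCategory.Q.map ((pushC W.ι).map γ) =
        (rpushObjIso W.ι ((DCoh.restrictCx W).obj I)).inv ≫
          (DCoh.Rpush W.ι).map (DerivedCategory.Q.map γ) ≫
            (rpushObjIso W.ι ((DCoh.restrictCx W).obj J)).hom := by
      rw [h1, Iso.inv_hom_id_assoc]
    show IsIso (DerivedCategory.Q.map ((pushC W.ι).map γ))
    rw [h2]
    infer_instance
  -- the map whose kernel is the glued complex
  let a : (GC U).obj I ⟶ (GC W).obj J := (σC hWU).app I ≫ Γ
  let b : (GC V).obj J ⟶ (GC W).obj J := (σC hWV).app J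
  let ψ : (GC U).obj I ⊞ (GC V).obj J ⟶ (GC W).obj J := biprod.desc a b
  haveI : Epi ψ := by
    apply HomologicalComplex.epi_of_epi_f
    intro n
    haveI : Epi (b.f n) := by
      haveI := hJinj n
      apply epi_of_app_surjective
      intro T z
      obtain ⟨y, hy⟩ := surjective_res_of_injective (J.X n) (cap_mono hWV T) z
      refine ⟨y, ?_⟩
      show ((σ hWV).app (J.X n)).app T y = z
      rw [σ_app_apply]
      exact hy
    have hfac : (biprod.inr : (GC V).obj J ⟶ (GC U).obj I ⊞ (GC V).obj J).f n ≫ ψ.f n = b.f n := by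
      rw [← HomologicalComplex.comp_f, biprod.inr_desc]
    exact epi_of_epi_fac hfac
  let S : ShortComplex (CochainComplex X.Modules ℤ) :=
    ShortComplex.mk (kernel.ι ψ) ψ (kernel.condition ψ)
  have hS : S.ShortExact :=
    ShortComplex.ShortExact.mk' (ShortComplex.exact_of_f_is_kernel _ (kernelIsKernel ψ))
      (inferInstanceAs (Mono (kernel.ι ψ))) (inferInstanceAs (Epi ψ))
  refine ⟨DerivedCategory.Q.obj (kernel ψ), ?_, ?_⟩
  · -- restriction to `U`
    let G : CochainComplex X.Modules ℤ ⥤ DCoh.D (U : Scheme.{u}) :=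
      DCoh.restrictCx U ⋙ DerivedCategory.Q
    have hSU := shortExact_map_mapHC (Scheme.Modules.restrictFunctor U.ι) S hS
    have hT := DerivedCategory.triangleOfSES_distinguished hSU
    haveI hb : IsIso ((DCoh.restrictCx U).map b) :=
      isIso_restrictCx_σC hWV (le_of_eq rfl) J
    have hq : IsIso (G.map (biprod.inr : (GC V).obj J ⟶ (GC U).obj I ⊞ (GC V).obj J) ≫
        (DerivedCategory.triangleOfSES hSU).mor₂) := by
      show IsIso (G.map biprod.inr ≫ G.map ψ)
      rw [← G.map_comp, biprod.inr_desc]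
      show IsIso (DerivedCategory.Q.map ((DCoh.restrictCx U).map b))
      infer_instance
    have r1 : G.map (biprod.inl : (GC U).obj I ⟶ (GC U).obj I ⊞ (GC V).obj J) ≫
        G.map biprod.fst = 𝟙 _ := by
      rw [← G.map_comp, biprod.inl_fst, G.map_id]
    have r2 : G.map (biprod.inr : (GC V).obj J ⟶ (GC U).obj I ⊞ (GC V).obj J) ≫
        G.map biprod.fst = 0 := by
      rw [← G.map_comp, biprod.inr_fst, G.map_zero]
    have r3 : G.map (biprod.fst : (GC U).obj I ⊞ (GC V).obj J ⟶ _) ≫ G.map biprod.inl +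
        G.map (biprod.snd : (GC U).obj I ⊞ (GC V).obj J ⟶ _) ≫ G.map biprod.inr = 𝟙 _ := by
      rw [← G.map_comp, ← G.map_comp, ← G.map_add, biprod.total, G.map_id]
    obtain ⟨e⟩ := nonempty_iso_obj₁_of_isIso_inr (DerivedCategory.triangleOfSES hSU) hT
      (G.map biprod.inl) (G.map biprod.inr) (G.map biprod.fst) (G.map biprod.snd) r1 r2 r3 hq
    haveI := isIso_restrictCx_ηC U I
    exact ⟨(Scheme.Modules.restrictFunctor U.ι).mapDerivedCategoryFactors.app (kernel ψ) ≪≫ e ≪≫
      (asIso (DerivedCategory.Q.map ((DCoh.restrictCx U).map ((ηC U).app I)))).symm ≪≫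
      ((Scheme.Modules.restrictFunctor U.ι).mapDerivedCategoryFactors.app I).symm ≪≫
      (DCoh.restrictD U.ι).mapIso eI.symm⟩
  · -- restriction to `V`
    let G : CochainComplex X.Modules ℤ ⥤ DCoh.D (V : Scheme.{u}) :=
      DCoh.restrictCx V ⋙ DerivedCategory.Q
    have hSV := shortExact_map_mapHC (Scheme.Modules.restrictFunctor V.ι) S hS
    have hT := DerivedCategory.triangleOfSES_distinguished hSV
    haveI ha1 : IsIso ((DCoh.restrictCx V).map ((σC hWU).app I)) :=
      isIso_restrictCx_σC hWU (le_of_eq (inf_comm V U)) I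
    haveI ha2 : IsIso (DerivedCategory.Q.map ((DCoh.restrictCx V).map Γ)) := by
      have hn := (Scheme.Modules.restrictFunctor V.ι).mapDerivedCategoryFactors.hom.naturality Γ
      have h2 : DerivedCategory.Q.map ((DCoh.restrictCx V).map Γ) =
          ((Scheme.Modules.restrictFunctor V.ι).mapDerivedCategoryFactors.app _).inv ≫
            (DCoh.restrictD V.ι).map (DerivedCategory.Q.map Γ) ≫
              ((Scheme.Modules.restrictFunctor V.ι).mapDerivedCategoryFactors.app _).hom := by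
        rw [Iso.eq_inv_comp]
        exact hn.symm
      rw [h2]
      infer_instance
    have hq : IsIso (G.map (biprod.inl : (GC U).obj I ⟶ (GC U).obj I ⊞ (GC V).obj J) ≫
        (DerivedCategory.triangleOfSES hSV).mor₂) := by
      show IsIso (G.map biprod.inl ≫ G.map ψ)
      rw [← G.map_comp, biprod.inl_desc]
      show IsIso (DerivedCategory.Q.map ((DCoh.restrictCx V).map ((σC hWU).app I ≫ Γ)))
      rw [Functor.map_comp, Functor.map_comp]
      infer_instance
    have r1 : G.map (biprod.inr : (GC V).obj J ⟶ (GC U).obj I ⊞ (GC V).obj J) ≫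
        G.map biprod.snd = 𝟙 _ := by
      rw [← G.map_comp, biprod.inr_snd, G.map_id]
    have r2 : G.map (biprod.inl : (GC U).obj I ⟶ (GC U).obj I ⊞ (GC V).obj J) ≫
        G.map biprod.snd = 0 := by
      rw [← G.map_comp, biprod.inl_snd, G.map_zero]
    have r3 : G.map (biprod.fst : (GC U).obj I ⊞ (GC V).obj J ⟶ _) ≫ G.map biprod.inl +
        G.map (biprod.snd : (GC U).obj I ⊞ (GC V).obj J ⟶ _) ≫ G.map biprod.inr = 𝟙 _ := by
      rw [← G.map_comp, ← G.map_comp, ← G.map_add, biprod.total, G.map_id]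
    obtain ⟨e⟩ := nonempty_iso_obj₁_of_isIso_inl (DerivedCategory.triangleOfSES hSV) hT
      (G.map biprod.inl) (G.map biprod.inr) (G.map biprod.fst) (G.map biprod.snd) r1 r2 r3 hq
    haveI := isIso_restrictCx_ηC V J
    exact ⟨(Scheme.Modules.restrictFunctor V.ι).mapDerivedCategoryFactors.app (kernel ψ) ≪≫ e ≪≫
      (asIso (DerivedCategory.Q.map ((DCoh.restrictCx V).map ((ηC V).app J)))).symm ≪≫
      ((Scheme.Modules.restrictFunctor V.ι).mapDerivedCategoryFactors.app J).symm ≪≫
      (DCoh.restrictD V.ι).mapIso eJ.symm⟩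

end Groth.Agent.Lib.Helper5.MV
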