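import Mathlib
import Groth.Prelude.Def_DCoh3
import Groth.Agent.Lib.Helper5.MV.Glue

/-!
# Gluing objects of `D(O_U)` and `D(O_V)` (helper5)
-/

set_option autoImplicit false
universe u
open CategoryTheory CategoryTheory.Limits Opposite TopologicalSpace AlgebraicGeometry

attribute [local instance] HasDerivedCategory.standard

namespace Groth.Agent.Lib.Helper5.MV

open Groth.Agent.Lib.Helper5.LpullLib Groth.Agent.Helper3.KInjDer Groth.Agent.Lib.Helper5.RpushRes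
  Groth.Agent.Lib.Helper5.PerfTri

variable {X : Scheme.{u}}

/-- restriction along equal morphisms -/
noncomputable def restrictDCongrObjIso' {U X : Scheme.{u}} {j j' : U ⟶ X} [IsOpenImmersion j]
    [IsOpenImmersion j'] (h : j = j') (K : DCoh.D X) :
    (DCoh.restrictD j).obj K ≅ (DCoh.restrictD j').obj K :=
  eqToIso (by subst h; rfl)

/-- **gluing objects on two opens** -/
theorem exists_glue' (U V : X.Opens) (A : DCoh.D (U : Scheme.{u})) (B : DCoh.D (V : Scheme.{u}))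
    (c : (DCoh.restrictD (X.homOfLE (inf_le_left : U ⊓ V ≤ U))).obj A ≅
      (DCoh.restrictD (X.homOfLE (inf_le_right : U ⊓ V ≤ V))).obj B) :
    ∃ F : DCoh.D X, Nonempty ((DCoh.restrictD U.ι).obj F ≅ A) ∧
      Nonempty ((DCoh.restrictD V.ι).obj F ≅ B) := by
  haveI : DCoh.HasRpush U.ι := hasRightDerivedFunctor (DCoh.pushKh U.ι)
  haveI : DCoh.HasRpush V.ι := hasRightDerivedFunctor (DCoh.pushKh V.ι)
  let A' := (DCoh.Rpush U.ι).obj A
  let B' := (DCoh.Rpush V.ι).obj B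
  obtain ⟨eA⟩ := Groth.Agent.Lib.Helper5.RpushOpen.nonempty_restrictD_rpush_iso U.ι A
  obtain ⟨eB⟩ := Groth.Agent.Lib.Helper5.RpushOpen.nonempty_restrictD_rpush_iso V.ι B
  have hU : X.homOfLE (inf_le_left : U ⊓ V ≤ U) ≫ U.ι = (U ⊓ V).ι := X.homOfLE_ι _
  have hV : X.homOfLE (inf_le_right : U ⊓ V ≤ V) ≫ V.ι = (U ⊓ V).ι := X.homOfLE_ι _
  let c' : (DCoh.restrictD (U ⊓ V).ι).obj A' ≅ (DCoh.restrictD (U ⊓ V).ι).obj B' :=
    restrictDCongrObjIso' hU.symm A' ≪≫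
      restrictDCompObjIso (X.homOfLE (inf_le_left : U ⊓ V ≤ U)) U.ι A' ≪≫
      (DCoh.restrictD (X.homOfLE (inf_le_left : U ⊓ V ≤ U))).mapIso eA ≪≫ c ≪≫
      (DCoh.restrictD (X.homOfLE (inf_le_right : U ⊓ V ≤ V))).mapIso eB.symm ≪≫
      (restrictDCompObjIso (X.homOfLE (inf_le_right : U ⊓ V ≤ V)) V.ι B').symm ≪≫
      restrictDCongrObjIso' hV B'
  obtain ⟨F, ⟨e1⟩, ⟨e2⟩⟩ := exists_glue U V A' B' c'
  exact ⟨F, ⟨e1 ≪≫ eA⟩, ⟨e2 ≪≫ eB⟩⟩

end Groth.Agent.Lib.Helper5.MV
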