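import Mathlib
import Groth.Agent.Lib.Helper5.MV.MVGamma
import Groth.Agent.Lib.Helper5.QC.SecF
import Groth.Agent.Lib.Helper5.KInj.DerivedQ
import Groth.Agent.Lib.Helper5.MV.RpushTri

/-!
# Isomorphisms in `D(O_Y)` are detected by `RΓ(U, -)` over affine opens `U` (helper5)
-/

set_option autoImplicit false
universe u
open CategoryTheory CategoryTheory.Limits Opposite TopologicalSpace AlgebraicGeometry
open Pretriangulated

attribute [local instance] HasDerivedCategory.standard

namespace Groth.Agent.Lib.Helper5.MV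

open Groth.Agent.Lib.Helper5.LpullLib Groth.Agent.Helper3.KInjDer Groth.Agent.Lib.Helper5.RpushRes
open Groth.Agent.Lib.Helper5.QC

variable {X : Scheme.{u}}

/-- naturality of `RΓ Q(I) ≅ Q(Γ I)` in the K-injective complex `I` -/
lemma rgammaObjIso_hom_naturality (Z : Scheme.{u}) [DCoh.HasRΓ Z]
    {I J : CochainComplex Z.Modules ℤ} [I.IsKInjective] [J.IsKInjective] (ψ : I ⟶ J) :
    (DCoh.RΓ Z).map (DerivedCategory.Q.map ψ) ≫ (rgammaObjIso Z J).hom =
      (rgammaObjIso Z I).hom ≫ DerivedCategory.Q.map ((gammaC Z).map ψ) := by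
  have h := ((DCoh.gammaKh Z).totalRightDerivedUnit DerivedCategory.Qh (WK Z)).naturality
    ((HomotopyCategory.quotient Z.Modules (ComplexShape.up ℤ)).map ψ)
  haveI : IsIso (((DCoh.gammaKh Z).totalRightDerivedUnit DerivedCategory.Qh (WK Z)).app
      ((HomotopyCategory.quotient Z.Modules (ComplexShape.up ℤ)).obj I)) :=
    isIso_unit_app (DCoh.gammaKh Z) _ I
  haveI : IsIso (((DCoh.gammaKh Z).totalRightDerivedUnit DerivedCategory.Qh (WK Z)).app
      ((HomotopyCategory.quotient Z.Modules (ComplexShape.up ℤ)).obj J)) :=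
    isIso_unit_app (DCoh.gammaKh Z) _ J
  exact comp_inv_eq_inv_comp_aux
    (((DCoh.gammaKh Z).totalRightDerivedUnit DerivedCategory.Qh (WK Z)).app
      ((HomotopyCategory.quotient Z.Modules (ComplexShape.up ℤ)).obj I))
    (((DCoh.gammaKh Z).totalRightDerivedUnit DerivedCategory.Qh (WK Z)).app
      ((HomotopyCategory.quotient Z.Modules (ComplexShape.up ℤ)).obj J))
    _ _ h.symm

lemma quasiIso_secF_congr {K L : CochainComplex X.Modules ℤ} (ψ : K ⟶ L) (W W' : X.Opens)
    (h : W = W') (hq : QuasiIso (((secF W).mapHomologicalComplex (ComplexShape.up ℤ)).map ψ)) :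
    QuasiIso (((secF W').mapHomologicalComplex (ComplexShape.up ℤ)).map ψ) := by
  subst h
  exact hq

/-- **isomorphisms in `D(O_X)` are detected by `RΓ(U, -)` for `U` affine open** -/
theorem isIso_of_isIso_rgamma [hR : ∀ U : X.Opens, DCoh.HasRΓ (U : Scheme.{u})]
    {G₁ G₂ : DCoh.D X} (φ : G₁ ⟶ G₂)
    (h : ∀ U : X.Opens, IsAffineOpen U →
      IsIso ((DCoh.RΓ (U : Scheme.{u})).map ((DCoh.restrictD U.ι).map φ))) : IsIso φ := by
  obtain ⟨I₁, hI₁, -, ⟨e₁⟩⟩ := exists_kInjective_injective_repr G₁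
  obtain ⟨I₂, hI₂, -, ⟨e₂⟩⟩ := exists_kInjective_injective_repr G₂
  haveI := hI₁
  haveI := hI₂
  obtain ⟨ψ, hψ⟩ := Helper5.KInj.exists_Q_map_eq (e₁.inv ≫ φ ≫ e₂.hom)
  suffices hq : QuasiIso ψ by
    haveI : IsIso (DerivedCategory.Q.map ψ) := (DerivedCategory.isIso_Q_map_iff_quasiIso _ _).2 hq
    have h1 : φ = e₁.hom ≫ DerivedCategory.Q.map ψ ≫ e₂.inv := by
      rw [hψ]; simp
    rw [h1]
    infer_instance
  apply quasiIso_of_secF
  intro V hV
  haveI := isKInjective_restrict V I₁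
  haveI := isKInjective_restrict V I₂
  let R := (Scheme.Modules.restrictFunctor V.ι).mapHomologicalComplex (ComplexShape.up ℤ)
  haveI hV' := h V hV
  let T := DCoh.restrictD V.ι ⋙ DCoh.RΓ (V : Scheme.{u})
  haveI hV'' : IsIso (T.map φ) := hV'
  have h3 : IsIso (T.map (DerivedCategory.Q.map ψ)) := by
    rw [hψ, Functor.map_comp, Functor.map_comp]
    infer_instance
  have h3' : IsIso ((DCoh.RΓ (V : Scheme.{u})).map
      ((DCoh.restrictD V.ι).map (DerivedCategory.Q.map ψ))) := h3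
  have hnat := (Scheme.Modules.restrictFunctor V.ι).mapDerivedCategoryFactors.hom.naturality ψ
  have h4 : DerivedCategory.Q.map (R.map ψ) =
      (Scheme.Modules.restrictFunctor V.ι).mapDerivedCategoryFactors.inv.app I₁ ≫
        (DCoh.restrictD V.ι).map (DerivedCategory.Q.map ψ) ≫
        (Scheme.Modules.restrictFunctor V.ι).mapDerivedCategoryFactors.hom.app I₂ := by
    have h5 : (DCoh.restrictD V.ι).map (DerivedCategory.Q.map ψ) ≫
        (Scheme.Modules.restrictFunctor V.ι).mapDerivedCategoryFactors.hom.app I₂ =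
        (Scheme.Modules.restrictFunctor V.ι).mapDerivedCategoryFactors.hom.app I₁ ≫
          DerivedCategory.Q.map (R.map ψ) := hnat
    rw [h5, Iso.inv_hom_id_app_assoc]
  have h6 : IsIso ((DCoh.RΓ (V : Scheme.{u})).map (DerivedCategory.Q.map (R.map ψ))) := by
    rw [h4, Functor.map_comp, Functor.map_comp]
    infer_instance
  have h7 := rgammaObjIso_hom_naturality (V : Scheme.{u}) (R.map ψ)
  have h8 : DerivedCategory.Q.map ((gammaC (V : Scheme.{u})).map (R.map ψ)) =
      (rgammaObjIso (V : Scheme.{u}) (R.obj I₁)).inv ≫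
        (DCoh.RΓ (V : Scheme.{u})).map (DerivedCategory.Q.map (R.map ψ)) ≫
        (rgammaObjIso (V : Scheme.{u}) (R.obj I₂)).hom := by
    rw [h7, Iso.inv_hom_id_assoc]
  have h9 : IsIso (DerivedCategory.Q.map ((gammaC (V : Scheme.{u})).map (R.map ψ))) := by
    rw [h8]
    infer_instance
  have h10 : QuasiIso ((gammaC (V : Scheme.{u})).map (R.map ψ)) :=
    (DerivedCategory.isIso_Q_map_iff_quasiIso _ _).1 h9
  have h11 : QuasiIso (((secF (V.ι ''ᵁ (⊤ : (V : Scheme.{u}).Opens))).mapHomologicalComplex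
      (ComplexShape.up ℤ)).map ψ) := h10
  exact quasiIso_secF_congr ψ _ _ (by simp) h11

end Groth.Agent.Lib.Helper5.MV
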