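import Groth.Agent.Lib.Helper5.MV.SuppExt0
set_option autoImplicit false
universe u
open CategoryTheory CategoryTheory.Limits AlgebraicGeometry Opposite TopologicalSpace
namespace Groth.Agent.Lib.Helper5.SuppExt
variable {X : Scheme.{u}}
attribute [local instance] HasDerivedCategory.standard

theorem hom_eq_zero_of_stalks (U V : X.Opens) (M : (U : Scheme.{u}).Modules)
    (hM : ∀ u : (U : Scheme.{u}), U.ι.base u ∈ V → Subsingleton (M.presheaf.stalk u))
    (N : (V : Scheme.{u}).Modules)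
    (φ : M ⟶ (Scheme.Modules.restrictFunctor U.ι).obj ((Scheme.Modules.pushforward V.ι).obj N)) :
    φ = 0 := by
  apply Scheme.Modules.hom_ext
  intro W
  ext s
  let F : TopCat.Sheaf Ab V := ⟨N.presheaf, N.isSheaf⟩
  refine TopCat.Presheaf.section_ext F (V.ι ⁻¹ᵁ (U.ι ''ᵁ W)) _ _ (fun v hv => ?_)
  obtain ⟨w, hw, hwv⟩ := hv
  have hwV : U.ι.base w ∈ V := by
    have : U.ι w = V.ι v := hwv
    rw [this]; exact v.2
  haveI := hM w hwV
  have h0 : M.presheaf.germ W w hw s = M.presheaf.germ W w hw 0 := Subsingleton.elim _ _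
  obtain ⟨W', hwW', i₁, i₂, hs⟩ := TopCat.Presheaf.germ_eq M.presheaf w hw hw s 0 h0
  have hv' : v ∈ V.ι ⁻¹ᵁ (U.ι ''ᵁ W') := ⟨w, hwW', hwv⟩
  have hle : V.ι ⁻¹ᵁ (U.ι ''ᵁ W') ≤ V.ι ⁻¹ᵁ (U.ι ''ᵁ W) := by
    intro y hy
    obtain ⟨z, hz, hzy⟩ := hy
    exact ⟨z, leOfHom i₁ hz, hzy⟩
  have hn := φ.mapPresheaf.naturality i₁.op
  have h1 : (ConcreteCategory.hom (F.presheaf.map (homOfLE hle).op))
      ((AddCommGrpCat.Hom.hom (Scheme.Modules.Hom.app φ W)) s) = 0 := by
    have h2 := congr($hn s)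
    have h3 : (ConcreteCategory.hom (F.presheaf.map (homOfLE hle).op))
      ((AddCommGrpCat.Hom.hom (Scheme.Modules.Hom.app φ W)) s) =
        (AddCommGrpCat.Hom.hom (Scheme.Modules.Hom.app φ W')) ((ConcreteCategory.hom (M.presheaf.map i₁.op)) s) :=
      h2.symm
    rw [h3, hs, map_zero, map_zero]
    rfl
  rw [← TopCat.Presheaf.germ_res_apply F.presheaf (homOfLE hle) v hv',
    ← TopCat.Presheaf.germ_res_apply F.presheaf (homOfLE hle) v hv', h1]
  congr 1
  exact (map_zero (ConcreteCategory.hom (F.presheaf.map (homOfLE hle).op))).symm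

theorem isZero_restrict_extZero (U V : X.Opens) (M : (U : Scheme.{u}).Modules)
    (hM : ∀ u : (U : Scheme.{u}), U.ι.base u ∈ V → Subsingleton (M.presheaf.stalk u)) :
    IsZero ((Scheme.Modules.restrictFunctor V.ι).obj ((CxOX.extZero U.ι).obj M)) := by
  rw [IsZero.iff_id_eq_zero]
  let adj := (CxOX.extZeroAdj U.ι).comp (Scheme.Modules.restrictAdjunction V.ι)
  apply (adj.homEquiv M _).injective
  exact (hom_eq_zero_of_stalks U V M hM _ _).trans (hom_eq_zero_of_stalks U V M hM _ _).symm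

open Groth.Agent.Lib.Helper5.RpushSupp Groth.Agent.Lib.Helper5.ExactHom in
theorem isZero_restrictD_extZeroD (U V : X.Opens) [PreservesFiniteLimits (CxOX.extZero U.ι)]
    (F : DCoh.D (U : Scheme.{u}))
    (hF : ∀ (i : ℤ) (u : (U : Scheme.{u})), U.ι.base u ∈ V →
      Subsingleton ((DCoh.HD F i).presheaf.stalk u)) :
    IsZero ((DCoh.restrictD V.ι).obj ((CxOX.extZeroD U.ι).obj F)) := by
  apply isZero_of_forall_isZero_HD
  intro i
  refine IsZero.of_iso ?_ (hdRestrictDIso _ V i).symm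
  have e : DCoh.HD ((CxOX.extZeroD U.ι).obj F) i ≅ (CxOX.extZero U.ι).obj (DCoh.HD F i) :=
    (derivedHomologyIso (CxOX.extZero U.ι) i).app F
  exact IsZero.of_iso (isZero_restrict_extZero U V _ (hF i))
    ((Scheme.Modules.restrictFunctor V.ι).mapIso e)

open Groth.Agent.Lib.Helper5.RpushSupp in
theorem main (U : X.Opens) [DCoh.HasRpush U.ι]
    [PreservesFiniteLimits (CxOX.extZero U.ι)] (T : Set X) (hT : IsClosed T) (hTU : T ⊆ (U : Set X)) :
    (∀ E : DCoh.D X, (∀ i : ℤ, CohB1.support (DCoh.HD E i) ⊆ T) →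
      Nonempty (E ≅ (DCoh.Rpush U.ι).obj ((DCoh.restrictD U.ι).obj E))) ∧
    (∀ F : DCoh.D (U : Scheme.{u}),
      (∀ i : ℤ, (fun x : (U : Scheme.{u}) => U.ι.base x) '' CohB1.support (DCoh.HD F i) ⊆ T) →
      Nonempty ((CxOX.extZeroD U.ι).obj F ≅ (DCoh.Rpush U.ι).obj F)) := by
  let V : X.Opens := ⟨Tᶜ, hT.isOpen_compl⟩
  have hUV : (⊤ : X.Opens) ≤ U ⊔ V := by
    intro x _
    by_cases hx : x ∈ T
    · exact Or.inl (hTU hx)
    · exact Or.inr hx
  refine ⟨fun E hE => ?_, fun F hF => ?_⟩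
  · apply iso_rpush_of_isZero_restrict U V hUV E
    apply isZero_of_forall_isZero_HD
    intro i
    refine IsZero.of_iso ?_ (hdRestrictDIso E V i).symm
    apply isZero_restrict_of_stalks
    intro x hx
    by_contra hns
    exact hx (hE i hns)
  · have hV : IsZero ((DCoh.restrictD V.ι).obj ((CxOX.extZeroD U.ι).obj F)) := by
      apply isZero_restrictD_extZeroD
      intro i u hu
      by_contra hns
      exact hu (hF i ⟨u, hns, rfl⟩)
    obtain ⟨e⟩ := iso_rpush_of_isZero_restrict U V hUV _ hV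
    exact ⟨e ≪≫ (DCoh.Rpush U.ι).mapIso ((extZeroDRestrictDIso U).app F)⟩

end Groth.Agent.Lib.Helper5.SuppExt
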