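import Mathlib
import Groth.Prelude.Def_DCoh3
import Groth.Prelude.Def_CxOX
import Groth.Agent.Lib.Helper5.MV.MVTri
import Groth.Agent.Lib.Helper5.MV.RpushTri
import Groth.Agent.Lib.Helper5.Stalk.RpushSupp
import Groth.Agent.Lib.Helper5.Perf.ExactHom
import Groth.Agent.Lib.Helper5.Perf.HomVanishMV
import Groth.Agent.Lib.Helper5.Misc.DerFaithful

/-!
# Objects supported on a closed subset inside an open (helper5)

If `U ∪ V = X` and `E|_V = 0` then `E ≅ Rj_*(E|_U)`; extension by zero `j_!F` restricts to `F`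
on `U` and to zero on `V` when `F` has no stalks over `U ∩ V`.
-/

set_option autoImplicit false
universe u
open CategoryTheory CategoryTheory.Limits AlgebraicGeometry Opposite TopologicalSpace
open Pretriangulated

attribute [local instance] HasDerivedCategory.standard

namespace Groth.Agent.Lib.Helper5.SuppExt

open Groth.Agent.Lib.Helper5.MV Groth.Agent.Lib.Helper5.RpushSupp
  Groth.Agent.Lib.Helper5.HomVanish

attribute [local instance] hasRpush'

variable {X : Scheme.{u}}

/-- if `E|_V = 0` and `W ≤ V` then `E|_W = 0` -/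
theorem isZero_restrictD_of_le (E : DCoh.D X) {W V : X.Opens} (h : W ≤ V)
    (hV : IsZero ((DCoh.restrictD V.ι).obj E)) : IsZero ((DCoh.restrictD W.ι).obj E) := by
  apply isZero_of_forall_isZero_HD
  intro i
  refine IsZero.of_iso ?_ (hdRestrictDIso E W i).symm
  apply isZero_restrict_of_le (DCoh.HD E i) h
  refine IsZero.of_iso ?_ (hdRestrictDIso E V i)
  exact (DerivedCategory.homologyFunctor _ i).map_isZero hV

/-- if `U ∪ V = X` and `E|_V = 0` then `E ≅ Rj_*(E|_U)` -/
theorem iso_rpush_of_isZero_restrict (U V : X.Opens) (hUV : (⊤ : X.Opens) ≤ U ⊔ V)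
    [DCoh.HasRpush U.ι] (E : DCoh.D X) (hV : IsZero ((DCoh.restrictD V.ι).obj E)) :
    Nonempty (E ≅ (DCoh.Rpush U.ι).obj ((DCoh.restrictD U.ι).obj E)) := by
  have D : MVData ⊤ U V (U ⊓ V) := ⟨le_top, le_top, hUV, inf_le_left, inf_le_right, le_rfl⟩
  obtain ⟨a, b, c, hT⟩ := exists_mv_triangle_id D E
  haveI := additive_rpush V.ι
  haveI := additive_rpush (U ⊓ V).ι
  have hB₂ : IsZero ((DCoh.Rpush V.ι).obj ((DCoh.restrictD V.ι).obj E)) :=
    (DCoh.Rpush V.ι).map_isZero hV
  have hC : IsZero ((DCoh.Rpush (U ⊓ V).ι).obj ((DCoh.restrictD (U ⊓ V).ι).obj E)) :=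
    (DCoh.Rpush (U ⊓ V).ι).map_isZero (isZero_restrictD_of_le E inf_le_right hV)
  haveI : IsIso a := (Triangle.isZero₃_iff_isIso₁ _ hT).1 hC
  exact ⟨asIso a ≪≫ (isoBiprodZero hB₂).symm⟩

/-! ### Extension by zero -/

section ExtZero

variable (U : X.Opens)

/-- the adjoint triple `j_! ⊣ j^* ⊣ j_*` -/
noncomputable def triple : Adjunction.Triple (CxOX.extZero U.ι) (Scheme.Modules.restrictFunctor U.ι)
    (Scheme.Modules.pushforward U.ι) where
  adj₁ := CxOX.extZeroAdj U.ι
  adj₂ := Scheme.Modules.restrictAdjunction U.ι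

instance : IsIso (CxOX.extZeroAdj U.ι).unit :=
  (triple U).isIso_unit_iff_isIso_counit.2
    (inferInstanceAs (IsIso (Scheme.Modules.restrictAdjunction U.ι).counit))

/-- `(j_! M)|_U ≅ M` -/
noncomputable def extZeroRestrictIso :
    CxOX.extZero U.ι ⋙ Scheme.Modules.restrictFunctor U.ι ≅ 𝟭 _ :=
  (asIso (CxOX.extZeroAdj U.ι).unit).symm

/-- `(j_! F)|_U ≅ F` on derived categories -/
noncomputable def extZeroDRestrictDIso [PreservesFiniteLimits (CxOX.extZero U.ι)] :
    CxOX.extZeroD U.ι ⋙ DCoh.restrictD U.ι ≅ 𝟭 _ :=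
  Groth.Agent.Lib.Helper5.DerFaithful.mapDerivedCategoryCompIso _ _ (extZeroRestrictIso U)

end ExtZero

end Groth.Agent.Lib.Helper5.SuppExt
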